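import Cfsg.Agent.Sg.DP2

/-! Two commuting strongly closed subgroups with trivial intersection: their normal closures
commute modulo the core. -/

set_option autoImplicit false

namespace Cfsg.Agent.Sg

open Subgroup Cfsg.Agent.FT Cfsg.Agent.H1 Cfsg.Agent.L
open scoped Pointwise commutatorElement

universe u

section
variable {G : Type*} [Group G] [Finite G] {s t : Set G} {K : Subgroup G}

theorem OO_top_eq : OO (⊤ : Subgroup G) = oddCore G := core_top_eq_pPrimeCore Nat.prime_two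

theorem exists_conj_mem (P : Sylow 2 G) {x : G} (h : IsPGroup 2 (zpowers x)) :
    ∃ g : G, g * x * g⁻¹ ∈ (P : Subgroup G) := by
  obtain ⟨Q, hQ⟩ := h.exists_le_sylow
  obtain ⟨g, rfl⟩ := MulAction.exists_smul_eq G Q P
  exact ⟨g, conj_mem_conj g (hQ (mem_zpowers x))⟩

theorem cent1_eq_top (h0 : OO (⊤ : Subgroup G) = ⊥) (P : Sylow 2 G) {x : G} (hx : x ∈ (P : Subgroup G))
    (h : ∀ g : G, g * x * g⁻¹ ∈ (P : Subgroup G) → g * x * g⁻¹ = x) : 𝐂[x] = ⊤ :=
  eq_top_iff.2 fun g _ => by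
    have := H6.zstar_wc P hx h g
    rw [← OO_top_eq, h0, mem_bot, mul_inv_eq_one, mul_inv_eq_iff_eq_mul] at this
    exact mem_cent1.2 this.symm

theorem SCS.nn_le_cent (h : SCS s) (P : Sylow 2 G) (hK : K ⊴ ⊤) (hc : h.sub P.2 ≤ 𝐂(K)) :
    nn s ⊤ ≤ 𝐂(K) := (closure_le _).2 fun x hx => by
  obtain ⟨g, hg⟩ := exists_conj_mem P (h.two x hx.1)
  simpa [mul_assoc] using conj_mem_of_mem_normalizer' (le_norm_cent hK.norm (mem_top g))
    (hc ⟨h.conj x hx.1 g, hg⟩)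

theorem SCS.cent_of_disj (h : SCS s) (hK : K ⊴ ⊤) (h0 : OO K = ⊥) (hd : ∀ x ∈ s, x ∈ K → x = 1) :
    nn s ⊤ ≤ 𝐂(K) := by
  obtain ⟨P⟩ := (inferInstance : Nonempty (Sylow 2 G))
  refine h.nn_le_cent P hK (S1251.result P _ ⟨h.sub_le _, fun x hx g hg => ⟨h.conj x hx.1 g, hg⟩⟩ K
    (le_top.trans hK.norm) ?_ (le_bot_iff.1 fun x hx => hd x hx.1.1 hx.2))
  rw [← OO_top_eq, ← map_eq_bot_iff_of_injective _ K.subtype_injective, core_top_map]
  exact h0

theorem SCS.exists_four (h : SCS s) (h0 : OO (⊤ : Subgroup G) = ⊥) (cne : ∀ a : G, a ≠ 1 → 𝐂[a] ≠ ⊤)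
    (P : Sylow 2 G) (h1 : nn s ⊤ ≠ ⊥) :
    ∃ A : Subgroup G, A ≤ h.sub P.2 ∧ Sq A ∧ #|A| = 4 := by
  have h2 : h.sub P.2 ≠ ⊥ := fun e => h1 (by
    obtain ⟨a, ha, a1⟩ := exists_mem_ne_one h1
    exact (cne a a1 (top_le_iff.1 (le_cent1_iff.2 (h.nn_le_cent P (NormalIn.refl ⊤)
      (e.le.trans bot_le) ha)))).elim)
  obtain ⟨a, ha, a0⟩ := exists_mem_orderOf_eq Nat.prime_two (pgroup_dvd_card Nat.prime_two
    (P.2.to_le (inf_le_left.trans (h.sub_le _))) (inf_cent_ne_bot_of_pgroup Nat.prime_two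
      (P.2.to_le (h.sub_le _)) P.2 (le_normalizer.trans (h.norm_sub _)) h2))
  have a1 : a ≠ 1 := fun e => by simp [e] at a0
  have a2 : a * a = 1 := by rw [← sq, ← a0, pow_orderOf_eq_one]
  obtain ⟨g, g1, g2⟩ : ∃ g : G, g * a * g⁻¹ ∈ (P : Subgroup G) ∧ g * a * g⁻¹ ≠ a := by
    by_contra! hn
    exact cne a a1 (cent1_eq_top h0 P ha.1.2 hn)
  have g3 : g * a * g⁻¹ * (g * a * g⁻¹) = 1 := by simp [mul_assoc, ← mul_assoc a a, a2]
  have g4 := conj_ne_one (g := g) a1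
  have g5 : zpowers (g * a * g⁻¹) ≤ 𝐂(zpowers a) :=
    le_cent_symm (zpowers_le.2 (cent_anti (zpowers_le.2 g1) ha.2))
  refine ⟨zpowers a ⊔ zpowers (g * a * g⁻¹), sup_le (zpowers_le.2 ha.1)
    (zpowers_le.2 ⟨h.conj a ha.1.1 g, g1⟩), fun x hx => ?_, ?_⟩
  · simpa [sq] using (abelem_sup (p := 2) (abelem_zpowers (by rwa [sq]))
      (abelem_zpowers (by rwa [sq])) g5).2 x hx
  · rw [(DProd.mk g5 (inf_eq_bot_of_prime (card_zpowers_eq_two a2 a1 ▸ Nat.prime_two) fun e => g2 ?_)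
      rfl).card, card_zpowers_eq_two a2 a1, card_zpowers_eq_two g3 g4]
    obtain ⟨n, hn⟩ := mem_powers_iff_mem_zpowers.2 (e (mem_zpowers a))
    rcases Nat.even_or_odd' n with ⟨k, rfl | rfl⟩
    · simp only [pow_mul, sq, g3, one_pow] at hn; exact absurd hn.symm a1
    · simpa only [pow_succ, pow_mul, pow_zero, one_mul, g3, one_pow] using hn

theorem Pair.two_case (h : Pair s t) (h0 : OO (⊤ : Subgroup G) = ⊥) [K.Normal] (h2 : IsPGroup 2 K)
    (hd : ∀ y ∈ t, y ∈ K → y = 1) (ih : ⁅nn (QuotientGroup.mk' K '' s) ⊤,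
      nn (QuotientGroup.mk' K '' t) ⊤⁆ ≤ OO ⊤) : ⁅nn s ⊤, nn t ⊤⁆ = ⊥ := by
  have hK : K ⊴ ⊤ := NormalIn.top_iff.2 inferInstance
  have h3 : ∀ y ∈ t, ∀ g, ⁅g, y⁆ ∈ K → g * y = y * g := fun y hy g e =>
    commutatorElement_eq_one_iff_mul_comm.1 (hd _ (h.r.mul _ (pgroup_sup h2 (h.r.two y hy)
      (Or.inr (le_top.trans hK.norm))) _ (h.r.conj y hy g) y hy (by
        simpa [commutatorElement_def] using mul_mem_sup e (mem_zpowers y))
        (mem_sup_right (mem_zpowers y))) e)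
  have h4 : nn t ⊤ ≤ 𝐂(K) := (closure_le _).2 fun y hy => mem_cent.2 fun g hg =>
    h3 y hy.1 g (hK.comm_le_left le_top (commutator_mem_commutator hg (mem_top y)))
  rw [← map_nn, ← map_nn, ← Subgroup.map_commutator, map_le_iff_le_comap] at ih
  set X := (OO (⊤ : Subgroup (G ⧸ K))).comap (QuotientGroup.mk' K) ⊓ 𝐂(K)
  have x1 : X ⊴ ⊤ := ((core_normal _ _).comap _).inf ⟨le_top, le_norm_cent hK.norm⟩
  have x2 : HallIn {2} (K ⊓ X) X := by
    refine ⟨inf_le_right, (piGrp_iff_isPGroup Nat.prime_two).2 (h2.to_le inf_le_left), ?_⟩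
    have := (core_pi {2}ᶜ (⊤ : Subgroup (G ⧸ K))).of_le (map_le_iff_le_comap.2
      (inf_le_left : X ≤ _))
    rwa [PiGrp, ← relIndex_ker, QuotientGroup.ker_mk', ← inf_relIndex_right] at this
  obtain ⟨D, d1, d2⟩ := x2.exists_sdprod ((hK.inf x1).norm.trans' le_top)
  have d3 : D = ⊥ := le_bot_iff.1 (h0 ▸ (le_core (d1.dprod ((d1.right_le.trans inf_le_right).trans
    (cent_anti inf_le_left))).normal_right d2.pi).trans (x1.core_le _))
  have x3 : X ≤ K := by have := d1.sup; rw [d3, sup_bot_eq] at this; exact this.ge.trans inf_le_left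
  have x4 := (le_inf ih (((h.r.nn_normal ⊤).comm_le_right le_top).trans h4)).trans x3
  exact comm_eq_bot_iff'.2 ((closure_le _).2 fun y hy => mem_cent.2 fun g hg =>
    h3 y hy.1 g (x4 (commutator_mem_commutator hg (mem_nn hy.1 (mem_top y)))))

end

theorem dp_aux (n : ℕ) : ∀ {G : Type u} [Group G] [Finite G], Nat.card G = n → ∀ {s t : Set G},
    Pair s t → ⁅nn s ⊤, nn t ⊤⁆ ≤ OO ⊤ := by
  induction n using Nat.strong_induction_on with
  | _ n ih =>
  intro G _ _ hn s t h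
  have loc : ∀ H : Subgroup G, H ≠ ⊤ → ⁅nn s H, nn t H⁆ ≤ OO H := fun H hH => by
    rw [← map_nn_top s H, ← map_nn_top t H, ← Subgroup.map_commutator, OO, ← core_top_map]
    exact map_mono (ih _ (hn ▸ (card_le_card_group H).lt_of_ne (mt (card_eq_iff_eq_top _).1 hH)) rfl
      (h.comap H.subtype_injective))
  have quo : ∀ (K : Subgroup G) [K.Normal], K ≠ ⊥ → (∀ R : Subgroup G, IsPGroup 2 R → ∀ x ∈ s,
      ∀ y ∈ t, x ∈ R → y ∈ R → x * y⁻¹ ∈ K → x ∈ K) →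
      ⁅nn (QuotientGroup.mk' K '' s) ⊤, nn (QuotientGroup.mk' K '' t) ⊤⁆ ≤ OO ⊤ := fun K _ h1 hd =>
    ih _ (by
      rw [← hn, card_eq_card_quotient_mul_card_subgroup K]
      exact lt_mul_of_one_lt_right Nat.card_pos ((one_lt_card_iff_ne_bot K).2 h1)) rfl
      (h.map (QuotientGroup.mk'_surjective K) fun R hR x hx y hy a b e => by
        rw [← MonoidHom.mem_ker, QuotientGroup.ker_mk']
        refine hd R hR x hx y hy a b ?_
        rw [← QuotientGroup.ker_mk' K, MonoidHom.mem_ker, map_mul, map_inv, e, mul_inv_cancel])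
  have n1 := h.l.nn_normal ⊤
  have n2 := h.r.nn_normal ⊤
  by_cases h0 : OO (⊤ : Subgroup G) = ⊥
  swap
  · haveI := NormalIn.top_iff.1 (core_normal {2}ᶜ (⊤ : Subgroup G))
    have := quo _ h0 fun R hR x hx y hy a b e => by
      have e' : x * y⁻¹ = 1 := mem_bot.1 (inf_eq_bot_of_two hR (odd_OO ⊤) ▸
        ⟨e, R.mul_mem a (R.inv_mem b)⟩)
      rw [h.disj x hx (mul_inv_eq_one.1 e' ▸ hy)]; exact one_mem _
    have e := B1.core_map_mk_eq_bot {2}ᶜ (⊤ : Subgroup G)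
    rw [map_top_of_surjective _ (QuotientGroup.mk'_surjective _)] at e
    have := this.trans e.le
    rwa [← map_nn, ← map_nn, ← Subgroup.map_commutator, le_bot_iff, Subgroup.map_eq_bot_iff,
      QuotientGroup.ker_mk'] at this
  by_cases e : nn s ⊤ ⊔ nn t ⊤ = ⊤
  swap
  · refine le_trans (commutator_mono ?_ ?_) ((loc _ e).trans ((n1.sup n2).core_le _))
    · exact closure_mono fun x hx => ⟨hx.1, mem_sup_left (subset_closure hx)⟩
    · exact closure_mono fun x hx => ⟨hx.1, mem_sup_right (subset_closure hx)⟩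
  rw [h0, le_bot_iff]
  have q1 := core_normal {2} (⊤ : Subgroup G)
  have q2 := core_pgroup Nat.prime_two (⊤ : Subgroup G)
  by_cases h2 : core {2} (⊤ : Subgroup G) = ⊥
  swap
  · have key : ∀ {s t : Set G} (h : Pair s t), (∀ (K : Subgroup G) [K.Normal], K ≠ ⊥ →
        (∀ R : Subgroup G, IsPGroup 2 R → ∀ x ∈ s, ∀ y ∈ t, x ∈ R → y ∈ R → x * y⁻¹ ∈ K → x ∈ K) →
        ⁅nn (QuotientGroup.mk' K '' s) ⊤, nn (QuotientGroup.mk' K '' t) ⊤⁆ ≤ OO ⊤) →
        h.l.sub q2 ≠ ⊥ → ⁅nn s ⊤, nn t ⊤⁆ = ⊥ := by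
      intro s t h quo h1
      haveI := NormalIn.top_iff.1 ⟨le_top, q1.norm.trans (h.l.norm_sub q2)⟩
      refine h.two_case h0 (q2.to_le (h.l.sub_le q2)) (fun y hy e => h.disj y e.1 hy)
        (quo _ h1 fun R hR x hx y hy a b e => ?_)
      have := h.l.mul R hR _ (h.l.inv e.1) _ (h.l.inv hx) (R.inv_mem (R.mul_mem a (R.inv_mem b)))
        (R.inv_mem a)
      simp only [mul_inv_rev, inv_inv, inv_mul_cancel_right] at this
      simpa [h.disj y this hy] using e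
    by_cases k1 : h.l.sub q2 = ⊥
    swap
    · exact key h quo k1
    by_cases k2 : h.r.sub q2 = ⊥
    swap
    · rw [commutator_comm]
      refine key h.symm (fun K _ h1 hd => ?_) k2
      rw [commutator_comm]
      refine quo K h1 fun R hR x hx y hy a b e => ?_
      have := K.inv_mem e
      rw [mul_inv_rev, inv_inv] at this
      simpa using K.mul_mem e (hd R hR y hy x hx b a this)
    haveI := NormalIn.top_iff.1 q1
    have o : OO (core {2} (⊤ : Subgroup G)) = ⊥ :=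
      core_eq_bot (by rw [compl_compl]; exact core_pi _ _)
    have c : ⊤ ≤ 𝐂(core {2} (⊤ : Subgroup G)) := e.ge.trans (sup_le
      (h.l.cent_of_disj q1 o fun x a b => mem_bot.1 (k1 ▸ ⟨a, b⟩))
      (h.r.cent_of_disj q1 o fun x a b => mem_bot.1 (k2 ▸ ⟨a, b⟩)))
    refine h.two_case h0 q2 (fun x a b => mem_bot.1 (k2 ▸ ⟨a, b⟩))
      (quo _ h2 fun R hR x hx y hy a b e => ?_)
    obtain ⟨P, hP⟩ := hR.exists_le_sylow
    have := cent1_eq_top h0 P (hP a) fun g hg => by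
      have c1 : g * (x * y⁻¹) * g⁻¹ = x * y⁻¹ :=
        mul_inv_eq_iff_eq_mul.2 (mem_cent.1 (c (mem_top g)) _ e).symm
      have c2 : g * y * g⁻¹ = (x * y⁻¹)⁻¹ * (g * x * g⁻¹) := by rw [← c1]; group
      have c3 : g * y * g⁻¹ ∈ (P : Subgroup G) :=
        c2 ▸ mul_mem (inv_mem (hP (R.mul_mem a (R.inv_mem b)))) hg
      have c4 := h.r.mul _ P.2 _ (h.r.inv hy) _ (h.r.inv (h.r.conj y hy g)) (inv_mem (hP b))
        (inv_mem c3)
      rw [inv_inv, c2, show y⁻¹ * ((x * y⁻¹)⁻¹ * (g * x * g⁻¹)) = x⁻¹ * (g * x * g⁻¹)⁻¹⁻¹ by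
        group] at c4
      have := h.disj _ (h.l.mul _ P.2 _ (h.l.inv hx) _ (h.l.inv (h.l.conj x hx g)) (inv_mem (hP a))
        (inv_mem hg)) c4
      rw [inv_inv, inv_mul_eq_one] at this
      exact this.symm
    exact le_core_of_pgroup Nat.prime_two ⟨le_top, le_norm_zpowers_of_cent this.ge⟩ (h.l.two x hx)
      (mem_zpowers x)
  by_contra h1
  obtain ⟨K, k1, hm⟩ := exists_minNormal_le h1 (n1.comm n2).norm
  have hK : K ⊴ ⊤ := ⟨le_top, hm.norm⟩
  have ab : ∀ X : Subgroup G, X ⊴ ⊤ → X ≤ 𝐂(X) → X = ⊥ := fun X a b => by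
    have := (nil_dprod_core (nil_of_comm (comm_iff_le_cent.2 b)) {2}).sup
    rw [le_bot_iff.1 ((a.core_le {2}).trans h2.le), le_bot_iff.1 ((a.core_le {2}ᶜ).trans h0.le),
      sup_bot_eq] at this
    exact this.symm
  have o : OO K = ⊥ := le_bot_iff.1 (h0 ▸ hK.core_le _)
  have key : ∀ {s : Set G}, SCS s → K ≤ nn s ⊤ → nn s K = K := fun {s} h hs =>
    hm.min _ nn_le (fun e => hm.ne_bot (ab K hK (hs.trans (h.cent_of_disj hK o fun x a b =>
      mem_bot.1 (e ▸ mem_nn a b))))) (hm.norm.trans (h.norm_nn K))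
  have e1 := key h.l (k1.trans (n1.comm_le_left le_top))
  have e2 := key h.r (k1.trans (n2.comm_le_right le_top))
  have e3 : K = ⊤ := by
    by_contra e3
    have := loc K e3
    rw [e1, e2, o, le_bot_iff, comm_eq_bot_iff] at this
    exact hm.ne_bot (ab K hK this)
  subst e3
  have cne : ∀ a : G, a ≠ 1 → 𝐂[a] ≠ ⊤ := fun a a1 e => a1 (zpowers_eq_bot.1 (ab _
    ⟨le_top, le_norm_zpowers_of_cent e.ge⟩ (le_cent_self (comm_of_cyclic (cyclic_zpowers a)))))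
  obtain ⟨P⟩ := (inferInstance : Nonempty (Sylow 2 G))
  obtain ⟨A, a1, a2, a3⟩ := h.l.exists_four h0 cne P (e1.symm ▸ hm.ne_bot)
  obtain ⟨B, b1, b2, b3⟩ := h.r.exists_four h0 cne P (e2.symm ▸ hm.ne_bot)
  exact Cx.false ⟨h, loc, cne, fun a ha => (a1 ha).1, fun b hb => (b1 hb).1, a2, b2, a3, b3,
    fun b hb => mem_cent.2 fun a ha => h.comm _ P.2 a (a1 ha).1 b (b1 hb).1 (a1 ha).2 (b1 hb).2⟩ h0
    fun N hN => or_iff_not_imp_left.2 fun e => hm.min N le_top e hN.norm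

variable {G : Type*} [Group G] [Finite G]

theorem Pair.comm_le {s t : Set G} (h : Pair s t) (H : Subgroup G) : ⁅nn s H, nn t H⁆ ≤ OO H := by
  rw [← map_nn_top s H, ← map_nn_top t H, ← Subgroup.map_commutator, OO, ← core_top_map]
  exact map_mono (dp_aux _ rfl (h.comap H.subtype_injective))

/-- the set of conjugates of elements of `T` -/
def cl (T : Subgroup G) : Set G := {x | ∃ g : G, g * x * g⁻¹ ∈ T}

omit [Finite G] in
theorem mem_cl {T : Subgroup G} {x : G} (h : x ∈ T) : x ∈ cl T := ⟨1, by simpa using h⟩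

theorem mem_of_cl {P T : Subgroup G} (h : IsStronglyClosed T P) {x : G} (hx : x ∈ cl T) {g : G}
    (hg : g * x * g⁻¹ ∈ P) : g * x * g⁻¹ ∈ T := by
  obtain ⟨k, hk⟩ := hx
  have := h.2 _ hk (g * k⁻¹) (by convert hg using 1; group)
  convert this using 1; group

theorem exists_conj_le_sylow (P : Sylow 2 G) {R : Subgroup G} (h : IsPGroup 2 R) :
    ∃ g : G, ∀ x ∈ R, g * x * g⁻¹ ∈ (P : Subgroup G) := by
  obtain ⟨Q, hQ⟩ := h.exists_le_sylow
  obtain ⟨g, rfl⟩ := MulAction.exists_smul_eq G Q P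
  exact ⟨g, fun x hx => conj_mem_conj g (hQ hx)⟩

theorem scs_cl (P : Sylow 2 G) {T : Subgroup G} (h : IsStronglyClosed T P) : SCS (cl T) := by
  refine ⟨fun x ⟨k, hk⟩ g => ⟨k * g⁻¹, by convert hk using 1; group⟩, fun x ⟨k, hk⟩ => ?_,
    mem_cl T.one_mem, fun R hR x hx y hy a b => ?_⟩
  · have := pgroup_conj (P.2.to_le ((zpowers_le.2 hk).trans h.1)) k⁻¹
    rwa [← conj_zpowers, inv_conj_conj] at this
  · obtain ⟨g, hg⟩ := exists_conj_le_sylow P hR
    exact ⟨g, by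
      convert T.mul_mem (mem_of_cl h hx (hg x a)) (T.inv_mem (mem_of_cl h hy (hg y b))) using 1
      group⟩

theorem pair_cl (P : Sylow 2 G) {T U : Subgroup G} (h : IsStronglyClosed T P)
    (h' : IsStronglyClosed U P) (hc : U ≤ 𝐂(T)) (hd : T ⊓ U = ⊥) : Pair (cl T) (cl U) := by
  refine ⟨scs_cl P h, scs_cl P h', fun R hR x hx y hy a b => ?_, fun x hx hy => ?_⟩
  · obtain ⟨g, hg⟩ := exists_conj_le_sylow P hR
    have := mem_cent.1 (hc (mem_of_cl h' hy (hg y b))) _ (mem_of_cl h hx (hg x a))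
    calc x * y = g⁻¹ * (g * x * g⁻¹ * (g * y * g⁻¹)) * g := by group
      _ = _ := by rw [this]; group
  · obtain ⟨g, hg⟩ := exists_conj_mem P ((scs_cl P h).two x hx)
    have := mem_bot.1 (hd.le ⟨mem_of_cl h hx hg, mem_of_cl h' hy hg⟩)
    simpa using this

omit [Finite G] in
theorem nn_cl_top (T : Subgroup G) : nn (cl T) ⊤ = normalClosure (T : Set G) := by
  refine le_antisymm ((closure_le _).2 fun x ⟨⟨g, hg⟩, _⟩ => ?_) ((closure_le _).2 fun x hx => ?_)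
  · simpa [mul_assoc] using (normalClosure_normal (s := (T : Set G))).conj_mem' _
      (subset_normalClosure hg) g
  · obtain ⟨y, hy, e⟩ := Group.mem_conjugatesOfSet_iff.1 hx
    obtain ⟨g, rfl⟩ := isConj_iff.1 e
    exact mem_nn ⟨g⁻¹, by simpa [mul_assoc] using hy⟩ (mem_top _)

/-- **Direct product theorem.** -/
theorem dp (P : Sylow 2 G) {T U : Subgroup G} (h : IsStronglyClosed T P)
    (h' : IsStronglyClosed U P) (hc : U ≤ 𝐂(T)) (hd : T ⊓ U = ⊥) :
    ⁅normalClosure (T : Set G), normalClosure (U : Set G)⁆ ≤ oddCore G := by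
  rw [← nn_cl_top, ← nn_cl_top, ← OO_top_eq]
  exact (pair_cl P h h' hc hd).comm_le ⊤

end Cfsg.Agent.Sg
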