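import Cfsg.Agent.FT.Main
import Cfsg.Agent.FT.BG6.A
import Cfsg.Agent.FT.Frob

/-! Elementary abelian `2`-groups acting on groups of odd order: generation lemmas. -/

set_option autoImplicit false

namespace Cfsg.Agent.Sg

open Subgroup Cfsg.Agent.FT Cfsg.Agent.H1 Cfsg.Agent.L
open scoped Pointwise commutatorElement

universe u

variable {G : Type*} [Group G] {A B H K U V W X Y : Subgroup G}

/-- exponent dividing `2` -/
def Sq (A : Subgroup G) : Prop := ∀ a ∈ A, a * a = 1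

theorem Sq.inv (h : Sq A) {a : G} (ha : a ∈ A) : a⁻¹ = a := inv_eq_of_mul_eq_one_right (h a ha)

theorem Sq.cent (h : Sq A) : A ≤ 𝐂(A) := le_cent_iff.2 fun a ha b hb => by
  rw [← h.inv (A.mul_mem hb ha), mul_inv_rev, h.inv ha, h.inv hb]

theorem Sq.comm (h : Sq A) : IsMulCommutative A := comm_iff_le_cent.2 h.cent

theorem Sq.cent1 (h : Sq A) {a : G} (ha : a ∈ A) : A ≤ 𝐂[a] := h.cent.trans (cent_le_cent1 ha)

theorem Sq.two (h : Sq A) : IsPGroup 2 A := fun a => ⟨1, Subtype.ext (by simpa [sq] using h a a.2)⟩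

theorem Sq.of_le (h : Sq A) (hB : B ≤ A) : Sq B := fun b hb => h b (hB hb)

theorem card_zpowers_le_two {x : G} (h : x * x = 1) : #|zpowers x| ≤ 2 := by
  rw [Nat.card_zpowers]; exact orderOf_le_of_pow_eq_one two_pos (by rwa [sq])

theorem iSup_norm {ι : Sort*} {f : ι → Subgroup G} (h : ∀ i, A ≤ 𝐍(f i)) : A ≤ 𝐍(iSup f) :=
  le_norm_sSup (by rintro _ ⟨i, rfl⟩; exact h i)

variable [Finite G]

theorem sol_of_odd (h : Odd #|K|) : Group.IsSolvable K := feit_thompson K h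

theorem cop_two (h : IsPGroup 2 A) (hK : Odd #|K|) : (#|A|).Coprime #|K| :=
  pgroup_coprime Nat.prime_two h hK.not_two_dvd_nat

theorem Sq.cop (h : Sq A) (hK : Odd #|K|) : (#|A|).Coprime #|K| := cop_two h.two hK

theorem odd_iff_piGrp : Odd #|K| ↔ PiGrp {2}ᶜ K := by
  rw [piGrp_compl_iff Nat.prime_two, Nat.two_dvd_ne_zero, Nat.odd_iff]

theorem odd_sup (h : Odd #|H|) (h' : Odd #|K|) (hn : H ≤ 𝐍(K) ∨ K ≤ 𝐍(H)) : Odd #|H ⊔ K| :=
  odd_iff_piGrp.2 ((odd_iff_piGrp.1 h).sup (odd_iff_piGrp.1 h') hn)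

theorem gen1 (hB : Sq B) (h4 : 4 ≤ #|B|) (hn : B ≤ 𝐍(K)) (hK : Odd #|K|)
    (h : ∀ b ∈ B, b ≠ 1 → K ⊓ 𝐂[b] ≤ H) : K ≤ H := by
  haveI := hB.comm
  refine le_of_centralizers_le (fun hc => ?_) hn (hB.cop hK) h
  obtain ⟨x, rfl⟩ := cyclic_iff.1 hc
  have := card_zpowers_le_two (hB x (mem_zpowers x))
  omega

theorem gen2 (hB : Sq B) (hn : B ≤ 𝐍(K)) (hK : Odd #|K|)
    (h : ∀ B' ≤ B, #|B| ≤ 2 * #|B'| → K ⊓ 𝐂(B') ≤ H) : K ≤ H := by
  refine B1.coprime_abelian_gen_cent hB.comm hn (hB.cop hK).symm fun B' h1 ⟨x, hx, h2⟩ => h B' h1 ?_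
  have h3 := (setProd_sup (A := B') (B := zpowers x) (Or.inl (le_norm_of_le_cent
    ((zpowers_le.2 hx).trans (le_cent_of_le hB.cent h1))))).card
  have h4 : 0 < #|B' ⊓ zpowers x| := Nat.card_pos
  have h5 := card_zpowers_le_two (hB x hx)
  have h6 := card_le_of_le' h2
  nlinarith

theorem exists_hyper (hB : Sq B) (hn : B ≤ 𝐍(K)) (hK : Odd #|K|) (h1 : K ≠ ⊥) :
    ∃ B' ≤ B, #|B| ≤ 2 * #|B'| ∧ K ⊓ 𝐂(B') ≠ ⊥ := by
  by_contra! h
  exact h1 (le_bot_iff.1 (gen2 hB hn hK fun B' h2 h3 => (h B' h2 h3).le))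

theorem comm_gen_aux (hB : Sq B) (h4 : 4 ≤ #|B|) (hBY : B ≤ 𝐂(Y)) (n : ℕ) :
    ∀ K : Subgroup G, #|K| = n → Odd #|K| → B ≤ 𝐍(K) → Y ≤ 𝐍(K) → (#|Y|).Coprime #|K| →
      (∀ b ∈ B, b ≠ 1 → ⁅K ⊓ 𝐂[b], Y⁆ ≤ U) → ∀ k ∈ K, ∃ u ∈ U, ∃ c ∈ 𝐂(Y), k = u * c := by
  induction n using Nat.strong_induction_on with
  | _ n ih =>
  intro K hn hK h1 h2 hc h k hk
  by_cases h0 : K = ⊥
  · exact ⟨1, one_mem _, 1, one_mem _, by simpa [h0] using hk⟩
  have hlt := der1_lt (sol_of_odd hK) h0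
  have h3 : K ≤ (U ⊓ K ⊔ ⁅K, K⁆) ⊔ K ⊓ 𝐂(Y) := gen1 hB h4 h1 hK fun b hb b1 => by
    have h5 : Y ≤ 𝐍(K ⊓ 𝐂[b]) := le_normalizer_inf h2
      ((le_cent1_iff.2 (hBY hb)).trans le_normalizer)
    rw [← commutator_sup_centralizer h5 (coprime_of_le hc le_rfl inf_le_left)
      (Or.inr (sol_of_odd (odd_of_le hK inf_le_left)))]
    exact sup_le_sup (le_sup_of_le_left (le_inf (h b hb b1) ((comm_le_left h5).trans inf_le_left)))
      (inf_le_inf_right _ inf_le_left)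
  obtain ⟨t, ht, c, hc', rfl⟩ := ((NormalIn.of_der1_le (sup_le inf_le_right hlt.le)
    le_sup_right).mem_sup inf_le_left).1 (h3 hk)
  obtain ⟨u, hu, m, hm, rfl⟩ := ((NormalIn.der1 K).mem_sup' inf_le_right).1 ht
  obtain ⟨u', hu', c', hc'', rfl⟩ := ih _ (hn ▸ card_lt_of_lt hlt) _ rfl (odd_of_le hK hlt.le)
    (h1.trans (norm_le_norm_der1 K)) (h2.trans (norm_le_norm_der1 K))
    (coprime_of_le hc le_rfl hlt.le) (fun b hb b1 => (commutator_mono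
      (inf_le_inf_right _ hlt.le) le_rfl).trans (h b hb b1)) m hm
  exact ⟨u * u', U.mul_mem hu.1 hu', c' * c, mul_mem hc'' hc'.2, by group⟩

/-- `[K, Y] = ⟨[C_K(b), Y] : b ∈ B^#⟩` -/
theorem comm_gen (hB : Sq B) (h4 : 4 ≤ #|B|) (hBY : B ≤ 𝐂(Y)) (hK : Odd #|K|) (h1 : B ≤ 𝐍(K))
    (h2 : Y ≤ 𝐍(K)) (hc : (#|Y|).Coprime #|K|) (h : ∀ b ∈ B, b ≠ 1 → ⁅K ⊓ 𝐂[b], Y⁆ ≤ U) :
    ⁅K, Y⁆ ≤ U :=
  (commutator_le_of_mul_centralizer (X := ⨆ b ∈ B, ⨆ _ : b ≠ 1, ⁅K ⊓ 𝐂[b], Y⁆)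
    (comm_gen_aux hB h4 hBY _ K rfl hK h1 h2 hc fun b hb b1 =>
      le_iSup₂_of_le b hb (le_iSup_of_le b1 le_rfl))).trans
    ((comm_le_left (iSup_norm fun _ => iSup_norm fun _ => iSup_norm fun _ =>
      right_le_norm_comm _ _)).trans (iSup₂_le fun b hb => iSup_le (h b hb)))

/-- the abelian step of `cent_comm_le` -/
theorem cl_abelian {M N : Subgroup G} (hV : Sq V) (h4 : 4 ≤ #|V|) (hW : Odd #|W|) (hn : V ≤ 𝐍(W))
    (hN : N ≤ 𝐂(V)) (h : ∀ c ∈ V, c ≠ 1 → ⁅W ⊓ 𝐂[c], V⁆ ⊓ 𝐂(V) ≤ N) (hM : M ⊴ W)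
    (hVM : V ≤ 𝐍(M)) (hc : M ≤ 𝐂(M)) : ⁅M, ⁅W, V⁆⁆ ⊓ 𝐂(V) ≤ N := by
  have hMo := odd_of_le hW hM.le
  have hL : N ⊓ M ⊔ ⁅M, V⁆ ≤ M := sup_le inf_le_right (comm_le_left hVM)
  have hML : M ≤ 𝐍(N ⊓ M ⊔ ⁅M, V⁆) := le_norm_of_le_cent (le_cent_of_le hc hL)
  have h1 : ⁅W, V⁆ ≤ centMod M (N ⊓ M ⊔ ⁅M, V⁆) := by
    refine comm_gen hV h4 hV.cent hW hn hn (hV.cop hW) fun c hcV c1 => ?_
    have hz : zpowers c ≤ V := zpowers_le.2 hcV
    have h2 : V ≤ 𝐍(W ⊓ 𝐂[c]) := le_normalizer_inf hn ((hV.cent1 hcV).trans le_normalizer)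
    have h3 := comm_le_left h2
    have h5 : ⁅M, ⁅W ⊓ 𝐂[c], V⁆⁆ ≤ N ⊓ M ⊔ ⁅M, V⁆ := by
      have e := commutator_sup_centralizer (hz.trans hVM) ((hV.of_le hz).cop hMo)
        (Or.inr (sol_of_odd hMo))
      refine le_trans (commutator_mono e.ge le_rfl) (comm_sup_left_le ?_ ?_
        ((comm_le_left (hz.trans hVM)).trans hML) (inf_le_left.trans hML))
      · exact (comm_le_left (le_normalizer_commutator ((h3.trans inf_le_left).trans hM.norm)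
          (le_norm_zpowers_of_cent (h3.trans inf_le_right)))).trans
            (le_sup_of_le_right (commutator_mono le_rfl hz))
      · have h6 : V ≤ 𝐍(M ⊓ ⁅W ⊓ 𝐂[c], V⁆) := le_normalizer_inf hVM (right_le_norm_comm _ _)
        have h7 := odd_of_le hMo (inf_le_left (b := ⁅W ⊓ 𝐂[c], V⁆))
        refine le_trans (le_inf ((commutator_mono inf_le_left (h3.trans inf_le_left)).trans
          (hM.comm_le_left le_rfl)) (comm_le_right (le_trans ?_ (left_le_norm_comm _ _))))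
          ((commutator_sup_centralizer h6 (hV.cop h7) (Or.inr (sol_of_odd h7))).ge.trans (sup_le
            (le_sup_of_le_right (commutator_mono inf_le_left le_rfl)) (le_sup_of_le_left (le_inf
              ((inf_le_inf_right _ inf_le_right).trans (h c hcV c1)) (inf_le_left.trans inf_le_left)))))
        rw [cent_zpowers]; exact inf_le_inf_right _ hM.le
    exact le_centMod_iff.2 ⟨(h3.trans inf_le_left).trans hM.norm,
      comm_le_left_iff.1 ((commutator_mono hL le_rfl).trans h5), h5⟩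
  haveI := comm_iff_le_cent.2 hc
  refine (inf_le_inf_right _ (le_centMod_iff.1 h1).2.2).trans ?_
  rw [sup_inf_modular (inf_le_left.trans hN) (Or.inr (inf_le_right.trans (left_le_norm_comm _ _)))]
  exact sup_le inf_le_left (le_trans (le_trans (le_inf (inf_le_inf_right _ (comm_le_left hVM))
    inf_le_left) (inf_centralizer_inf_commutator_eq_bot hVM (hV.cop hMo)).le) bot_le)

theorem sup_inf_cent (hX : A ≤ 𝐍(X)) (hY : A ≤ 𝐍(Y)) (hn : X ≤ 𝐍(Y)) (hA : IsPGroup 2 A)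
    (ho : Odd #|Y|) : (X ⊔ Y) ⊓ 𝐂(A) = X ⊓ 𝐂(A) ⊔ Y ⊓ 𝐂(A) := by
  refine le_antisymm (fun g hg => ?_) (sup_le (inf_le_inf_right _ le_sup_left)
    (inf_le_inf_right _ le_sup_right))
  obtain ⟨x, hx, y, hy, rfl⟩ := ((NormalIn.sup_right hn).mem_sup' le_sup_left).1 hg.1
  have h1 := odd_of_le ho (inf_le_right (a := X))
  obtain ⟨a, ha, b, hb, e⟩ := exists_mul_of_mem_centralizer hX hY (cop_two hA h1)
    (Or.inr (sol_of_odd h1)) hx hy hg.2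
  rw [e]; exact mul_mem_sup ha hb

theorem quo_inf_cent' (hX : A ≤ 𝐍(X)) (hY : A ≤ 𝐍(Y)) (hn : X ≤ 𝐍(Y)) (hA : IsPGroup 2 A)
    (ho : Odd #|Y|) : X /' Y ⊓ 𝐂(A /' Y) = (X ⊓ 𝐂(A)) /' Y := by
  rw [← quo_sup_right hn, ← quo_inf_cent hY le_sup_right (cop_two hA ho) (Or.inr (sol_of_odd ho)),
    sup_inf_cent hX hY hn hA ho, mim_sup _ (inf_le_left.trans hn) (inf_le_left.trans le_normalizer),
    (quo_eq_bot_iff (inf_le_left.trans le_normalizer)).2 inf_le_left, sup_bot_eq]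

theorem quo_inf_cent1' {a : 𝐍(Y)} (hX : (a : G) ∈ 𝐍(X)) (hn : X ≤ 𝐍(Y)) (ha : (a : G) * a = 1)
    (ho : Odd #|Y|) : X /' Y ⊓ 𝐂[coset Y a] = (X ⊓ 𝐂[(a : G)]) /' Y := by
  rw [← cent_zpowers, ← cent_zpowers, ← mim_zpowers]
  refine quo_inf_cent' (zpowers_le.2 hX) (zpowers_le.2 a.2) hn
    ((pgroup_zpowers Nat.prime_two).2 ?_) ho
  exact IsPiNum.of_dvd ((isPiNum_prime Nat.prime_two).2 rfl)
    (orderOf_dvd_of_pow_eq_one (x := (a : G)) (by rwa [sq]))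

theorem inf_eq_bot_of_two (hA : IsPGroup 2 A) (hK : Odd #|K|) : K ⊓ A = ⊥ :=
  inf_eq_bot_of_coprime' (cop_two hA hK).symm

theorem Sq.mim {G' : Type*} [Group G'] {D : Subgroup G} (h : Sq A) (f : D →* G') :
    Sq (mim f A) := fun a ha => by
  obtain ⟨b, hb, rfl⟩ := mem_mim.1 ha
  rw [← map_mul, show b * b = 1 from Subtype.ext (h _ hb), map_one]

theorem cl_aux (n : ℕ) : ∀ {G : Type u} [Group G] [Finite G] {V W N : Subgroup G}, #|W| = n →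
    Sq V → 4 ≤ #|V| → Odd #|W| → V ≤ 𝐍(W) → N ≤ W ⊓ 𝐂(V) → W ⊓ 𝐂(V) ≤ 𝐍(N) →
    (∀ c ∈ V, c ≠ 1 → ⁅W ⊓ 𝐂[c], V⁆ ⊓ 𝐂(V) ≤ N) → ⁅W, V⁆ ⊓ 𝐂(V) ≤ N := by
  induction n using Nat.strong_induction_on with
  | _ n ih =>
  intro G _ _ V W N hn hV h4 hW hVW hN hNn h
  have hs := sol_of_odd hW
  have hK := comm_le_left hVW
  by_cases e : ⁅W, V⁆ = W
  swap
  · have := ih _ (hn ▸ card_lt_of_lt (hK.lt_of_ne e)) (N := N ⊓ ⁅W, V⁆) rfl hV h4 (odd_of_le hW hK)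
      (right_le_norm_comm _ _) (le_inf inf_le_right (inf_le_left.trans (hN.trans inf_le_right)))
      (le_normalizer_inf ((inf_le_inf_right _ hK).trans hNn) (inf_le_left.trans le_normalizer))
      fun c hc c1 => le_inf ((inf_le_inf_right _ (commutator_mono (inf_le_inf_right _ hK)
        le_rfl)).trans (h c hc c1)) (inf_le_left.trans (commutator_mono (inf_le_left.trans hK) le_rfl))
    rw [commutator_commutator_eq hVW (hV.cop hW) (Or.inr hs)] at this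
    exact this.trans inf_le_left
  by_contra hcon
  rw [e] at hcon
  have hNV := hN.trans inf_le_right
  have F : ∀ Z ≤ W, MinNormal Z (W ⊔ V) →
      Z ≤ 𝐂(V) ∧ Z ≤ 𝐂(W) ∧ Z ⊓ N = ⊥ ∧ W ⊓ 𝐂(V) ≤ N ⊔ Z := by
    intro Z hZ hm
    have hZo := odd_of_le hW hZ
    have n1 : W ≤ 𝐍(Z) := le_sup_left.trans hm.norm
    have n2 : V ≤ 𝐍(Z) := le_sup_right.trans hm.norm
    have h1 : W ⊓ 𝐂(V) ≤ N ⊔ Z := by
      have h2 := quo_inf_cent' hVW n2 n1 hV.two hZo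
      have := ih _ (hn ▸ card_quo_lt ⟨hZ, n1⟩ hm.ne_bot) (V := V /' Z) (N := N /' Z) rfl (hV.mim _)
        (by rwa [card_quo_of_disjoint n2 (inf_eq_bot_of_two hV.two hZo)]) (odd_mim hW _)
        (mim_le_norm _ hVW) (h2 ▸ mim_mono _ hN) (h2 ▸ mim_le_norm _ hNn) fun c hc c1 => by
          obtain ⟨c, hc', rfl⟩ := mem_mim.1 hc
          have h3 : V ≤ 𝐍(W ⊓ 𝐂[(c : G)]) :=
            le_normalizer_inf hVW ((hV.cent1 hc').trans le_normalizer)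
          rw [quo_inf_cent1' (hVW hc') n1 (hV _ hc') hZo, ← mim_comm _ (inf_le_left.trans n1) n2,
            quo_inf_cent' (right_le_norm_comm _ _) n2 (((comm_le_left h3).trans inf_le_left).trans n1)
              hV.two hZo]
          exact mim_mono _ (h c hc' fun e => c1 (by rw [show c = 1 from Subtype.ext e, map_one]))
      rwa [← mim_comm _ n1 n2, e, h2, quo_le_quo_iff' (inf_le_left.trans n1)
        ((hN.trans inf_le_left).trans n1)] at this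
    have h2 : ¬ Z ⊓ 𝐂(V) ≤ N := fun h2 => hcon ((le_inf h1 inf_le_right).trans (by
      rw [sup_inf_modular hNV (Or.inr ((hN.trans inf_le_left).trans n1))]; exact sup_le le_rfl h2))
    obtain ⟨p, -, hp⟩ := hm.abelem (sol_of_le hs hZ)
    have h3 : Z ≤ 𝐂(W) := comm_eq_bot_iff.1 (by
      by_contra h3
      have := cl_abelian hV h4 hW hVW hNV h ⟨hZ, n1⟩ n2 (le_cent_self hp.1)
      rw [e, hm.min _ (comm_le_left n1) h3 (le_normalizer_commutator hm.norm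
        (sup_le le_normalizer hVW))] at this
      exact h2 this)
    have h5 : Z ≤ 𝐂(V) := (hm.min _ inf_le_left (fun e => h2 (e.le.trans bot_le)) (sup_le
      (le_norm_of_le_cent (le_cent_symm (inf_le_left.trans h3)))
      (le_norm_subcent n2 le_normalizer))).ge.trans inf_le_right
    refine ⟨h5, h3, ?_, h1⟩
    by_contra h6
    exact h2 (inf_le_left.trans ((hm.min _ inf_le_left h6 (le_norm_of_le_cent (le_cent_symm
      (inf_le_left.trans (cent_sup W V ▸ le_inf h3 h5))))).ge.trans inf_le_right))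
  have F2 : ∀ X ≤ W, W ⊔ V ≤ 𝐍(X) → X ⊓ 𝐂(V) ≤ N → X = ⊥ := fun X h1 h2 h3 => by
    by_contra h0
    obtain ⟨Z, hZ, hm⟩ := exists_minNormal_le h0 h2
    obtain ⟨a, -, b, -⟩ := F Z (hZ.trans h1) hm
    exact hm.ne_bot (le_bot_iff.1 ((le_inf le_rfl ((le_inf hZ a).trans h3)).trans b.le))
  have h0 : W ≠ ⊥ := fun h0 => hcon (inf_le_left.trans (h0.le.trans bot_le))
  obtain ⟨Z, hZ, hm⟩ := exists_minNormal_le h0 (sup_le le_normalizer hVW)
  obtain ⟨z1, z2, z3, z4⟩ := F Z hZ hm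
  obtain ⟨K, hKW, hch⟩ := exists_chief_bottom ⟨hZ.trans le_sup_left, hm.norm⟩
    (NormalIn.sup_left hVW) (hZ.lt_of_ne fun e' => h0 (by rw [← e, comm_eq_bot_iff, ← e']; exact z1))
  obtain ⟨p, -, hp⟩ := hch.abelem (sol_of_le hs hKW)
  have k1 := ((abelem_quo_iff (hch.normU.le.trans hch.normV.norm)).1 hp).1
  have hKo := odd_of_le hW hKW
  have k2 : V ≤ 𝐍(K) := le_sup_right.trans hch.normU.norm
  have k3 : ∀ c ∈ V, c ≠ 1 → K ⊓ 𝐂[c] ≤ 𝐂(K ⊓ 𝐂[c]) := fun c hc c1 => by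
    have h3 : V ≤ 𝐍(W ⊓ 𝐂[c]) := le_normalizer_inf hVW ((hV.cent1 hc).trans le_normalizer)
    have h5 := comm_le_left h3
    have h6 : N ≤ W ⊓ 𝐂[c] := hN.trans (inf_le_inf_left _ (cent_le_cent1 hc))
    have h7 : W ⊓ 𝐂[c] ≤ (⁅W ⊓ 𝐂[c], V⁆ ⊔ N) ⊔ Z := by
      have h8 := odd_of_le hW (inf_le_left (b := 𝐂[c]))
      refine (commutator_sup_centralizer h3 (hV.cop h8) (Or.inr (sol_of_odd h8))).ge.trans ?_
      rw [sup_assoc]
      exact sup_le_sup_left ((inf_le_inf_right _ inf_le_left).trans z4) _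
    have h8 : ⁅W ⊓ 𝐂[c], V⁆ ⊔ N ≤ W := (sup_le h5 h6).trans inf_le_left
    have h9 : ⁅W ⊓ 𝐂[c], W ⊓ 𝐂[c]⁆ ≤ ⁅W ⊓ 𝐂[c], V⁆ ⊔ N := by
      refine (der1_mono h7).trans ?_
      rw [der1_sup _ _ (le_norm_of_le_cent (le_cent_of_le z2 h8)), comm_eq_bot_iff'.2
        (le_cent_of_le z2 h8), comm_eq_bot_iff.2 (le_cent_of_le z2 hZ), sup_bot_eq, sup_bot_eq]
      exact der1_le _
    rw [← comm_eq_bot_iff, ← le_bot_iff, ← z3]
    have h10 := (der1_mono (inf_le_left (a := K) (b := 𝐂[c]))).trans k1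
    refine le_inf h10 ((le_inf ((der1_mono (inf_le_inf_right _ hKW)).trans h9)
      (h10.trans z1)).trans ?_)
    rw [sup_inf_modular' hNV (Or.inl (h6.trans (left_le_norm_comm _ _)))]
    exact sup_le (h c hc c1) le_rfl
  have k4 : K ≤ 𝐂(K) := gen1 hV h4 k2 hKo fun d hd d1 => le_cent_symm (gen1 hV h4 k2 hKo
    fun c hc c1 => by
      have h3 : zpowers d ≤ 𝐍(K ⊓ 𝐂[c]) := (zpowers_le.2 hd).trans
        (le_normalizer_inf k2 ((hV.cent1 hc).trans le_normalizer))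
      have h8 := odd_of_le hKo (inf_le_left (b := 𝐂[c]))
      refine (commutator_sup_centralizer h3 ((hV.of_le (zpowers_le.2 hd)).cop h8)
        (Or.inr (sol_of_odd h8))).ge.trans (sup_le ?_ (le_trans ?_ (k3 d hd d1)))
      · rw [← comm_eq_bot_iff, commutator_comm (K ⊓ 𝐂[c])]
        refine three_subgroups (comm_eq_bot_iff.2 ?_) ?_
        · exact (((commutator_mono inf_le_left inf_le_left).trans k1).trans z1).trans
            (cent_anti (zpowers_le.2 hd))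
        · rw [comm_eq_bot_iff.2 (inf_le_right.trans (cent_zpowers d).ge), commutator_bot_left]
      · rw [cent_zpowers]; exact inf_le_inf_right _ inf_le_left)
  have k5 : K ⊴ W := hch.normU.of_le hKW le_sup_left
  have k6 : K ≤ 𝐂(W) := comm_eq_bot_iff.1 (F2 _ ((k5.comm_le_left le_rfl).trans hKW)
    (le_normalizer_commutator hch.normU.norm (sup_le le_normalizer hVW))
    (by simpa only [e] using cl_abelian hV h4 hW hVW hNV h k5 k2 k4))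
  haveI := comm_iff_le_cent.2 k4
  have k7 : K ≤ 𝐂(V) := comm_eq_bot_iff.1 (F2 _ ((comm_le_left k2).trans hKW)
    (sup_le (le_norm_of_le_cent (le_cent_symm ((comm_le_left k2).trans k6))) (right_le_norm_comm _ _))
    (le_trans (le_trans (le_inf (inf_le_inf_right _ (comm_le_left k2)) inf_le_left)
      (inf_centralizer_inf_commutator_eq_bot k2 (hV.cop hKo)).le) bot_le))
  have k8 := F2 (N ⊓ K) (inf_le_right.trans hKW) (le_norm_of_le_cent (le_cent_symm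
    (inf_le_right.trans (cent_sup W V ▸ le_inf k6 k7)))) (inf_le_left.trans inf_le_left)
  refine hch.lt.not_ge ((le_inf ((le_inf hKW k7).trans z4) le_rfl).trans ?_)
  rw [sup_inf_modular' hch.lt.le (Or.inr ((hN.trans inf_le_left).trans
    (le_sup_left.trans hm.norm))), k8, bot_sup_eq]

/-- fixed points in `[W, V]` are generated, as a normal subgroup of `C_W(V)`, by those in the
`[C_W(c), V]` -/
theorem cent_comm_le {N : Subgroup G} (hV : Sq V) (h4 : 4 ≤ #|V|) (hW : Odd #|W|) (hn : V ≤ 𝐍(W))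
    (hN : N ≤ W ⊓ 𝐂(V)) (hNn : W ⊓ 𝐂(V) ≤ 𝐍(N))
    (h : ∀ c ∈ V, c ≠ 1 → ⁅W ⊓ 𝐂[c], V⁆ ⊓ 𝐂(V) ≤ N) : ⁅W, V⁆ ⊓ 𝐂(V) ≤ N :=
  cl_aux _ rfl hV h4 hW hn hN hNn h

end Cfsg.Agent.Sg
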