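import Cfsg.Agent.Sg.DP
import Cfsg.Agent.H6.Transfer

/-! Product fusion. -/

set_option autoImplicit false

namespace Cfsg.Agent.Sg

open Subgroup Cfsg.Agent.FT Cfsg.Agent.H1 Cfsg.Agent.L
open scoped Pointwise commutatorElement

variable {G : Type*} [Group G] [Finite G]

theorem odd_relIndex_sylow (P : Sylow 2 G) {N : Subgroup G} (hN : N ⊴ ⊤) :
    Odd ((P : Subgroup G).relIndex N) := by
  have := (sylow_hall Nat.prime_two (sylow_inf_normal' Nat.prime_two (isSylowIn_top P) hN)).index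
  rw [inf_relIndex_right] at this
  exact Nat.odd_iff.2 (Nat.two_dvd_ne_zero.1 fun h => this 2 Nat.prime_two h rfl)

theorem inf_eq_of_prod (P : Sylow 2 G) {T U M N : Subgroup G} (h : IsStronglyClosed T P)
    (hs : T ⊔ U = P) (hM : M = normalClosure (T : Set G)) (hN : U ≤ N) (hc : N ≤ 𝐂(M))
    (ht : M ⊔ N = ⊤) : (P : Subgroup G) ⊓ M = T := by
  have m1 : M ⊴ ⊤ := hM ▸ NormalIn.top_iff.2 inferInstance
  have m2 : T ≤ M := hM ▸ le_normalClosure
  have h1 : ∀ x ∈ (P : Subgroup G), x ∈ M → ∃ a ∈ T, ∃ z ∈ (P : Subgroup G), (∀ g, z * g = g * z) ∧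
      a * z = x := fun x hx hm => by
    obtain ⟨a, ha, z, hz, rfl⟩ := ((NormalIn.sup_left (le_norm_of_le_cent (le_cent_of_le
      (hN.trans hc) m2))).mem_sup le_sup_right).1 (hs ▸ hx)
    refine ⟨a, ha, z, hs ▸ mem_sup_right hz, fun g => (mem_cent1.1 ((ht.ge.trans (sup_le
      (le_cent1_iff.2 (hc (hN hz))) (hc.trans (cent_le_cent1 ((mul_mem_cancel_left (m2 ha)).1 hm)))))
        (mem_top g))).symm, rfl⟩
  have h2 : M ≤ T ⊔ ⁅M, M⁆ := by
    have h3 := sup_le m2 (der1_le M)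
    haveI := NormalIn.top_iff.1 ⟨le_top, ht.ge.trans (sup_le (le_norm_of_der1_le h3 le_sup_right)
      (le_norm_of_le_cent (le_cent_of_le hc h3)))⟩
    exact hM.le.trans (normalClosure_le_normal (le_sup_left : T ≤ T ⊔ ⁅M, M⁆))
  refine le_antisymm (fun x hx => ?_) (le_inf h.1 m2)
  obtain ⟨a, ha, c, hc', rfl⟩ := ((NormalIn.der1 M).mem_sup' m2).1 (h2 hx.2)
  refine T.mul_mem ha (by_contra fun hn => ?_)
  have c1 : c ∈ (P : Subgroup G) := (mul_mem_cancel_left (h.1 ha)).1 hx.1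
  refine H6.not_mem_commutator_of_controlled (p := 2) ((P : Subgroup G).subgroupOf M) (T.subgroupOf M)
    (NormalIn.subgroupOf ⟨h.1, H6.IsStronglyClosed.le_normalizer' h⟩ M).normal_subgroupOf
    (fun x hx y hy => ?_) (Nat.coprime_two_left.2 (odd_relIndex_sylow P m1)) ⟨c, der1_le M hc'⟩ c1 hn
    ?_ (fun m b hb => ?_) ?_
  · obtain ⟨a, ha, z, -, hz, e⟩ := h1 x hx x.2
    obtain ⟨b, hb, w, -, hw, e'⟩ := h1 y hy y.2
    show (x : G) * y * (x : G)⁻¹ * (y : G)⁻¹ ∈ T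
    rw [← e, ← e', show a * z * (b * w) * (a * z)⁻¹ * (b * w)⁻¹ =
      a * (z * (b * w) * z⁻¹) * a⁻¹ * w⁻¹ * b⁻¹ by group, hz, mul_inv_cancel_right,
      show a * (b * w) * a⁻¹ = a * b * (w * a⁻¹) by group, hw]
    simpa [mul_assoc] using T.mul_mem (T.mul_mem (T.mul_mem ha hb) (T.inv_mem ha)) (T.inv_mem hb)
  · obtain ⟨k, hk⟩ := P.2 ⟨c, c1⟩
    exact ⟨k, Subtype.ext (show c ^ 2 ^ k = 1 from congrArg Subtype.val hk)⟩
  · obtain ⟨a, ha, z, z1, hz, e⟩ := h1 (c ^ m) (pow_mem c1 m) (pow_mem (der1_le M hc') m)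
    have hb' : (b : G) * c ^ m * (b : G)⁻¹ ∈ (P : Subgroup G) := hb
    show (b : G) * c ^ m * (b : G)⁻¹ * (c ^ m)⁻¹ ∈ T
    have e2 : (b : G) * (a * z) * (b : G)⁻¹ = b * a * (b : G)⁻¹ * z := by
      rw [mul_assoc ((b : G) * a), ← hz (b : G)⁻¹]; group
    rw [← e, e2] at hb' ⊢
    simpa [mul_assoc] using T.mul_mem (h.2 a ha b ((mul_mem_cancel_right z1).1 hb')) (T.inv_mem ha)
  · rw [der1_eq_commutator] at hc'
    obtain ⟨d, hd, rfl⟩ := hc'
    exact hd

theorem product_fusion (hO : oddCore G = ⊥) (hO' : ∀ N : Subgroup G, N.Normal → Odd N.index → N = ⊤)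
    (P : Sylow 2 G) {T U : Subgroup G} (hp : IsInternalDirectProduct T U (P : Subgroup G))
    (h : IsStronglyClosed T P) (h' : IsStronglyClosed U P) : ∃ M N : Subgroup G, M.Normal ∧ N.Normal ∧
      IsInternalDirectProduct M N ⊤ ∧ T ≤ M ∧ U ≤ N ∧ Odd (T.relIndex M) ∧ Odd (U.relIndex N) := by
  obtain ⟨-, -, p1, p2, p3⟩ := hp
  have h1 := dp P h h' (fun b hb => mem_cent.2 fun a ha => p1 a ha b hb) p2
  rw [hO, le_bot_iff] at h1
  have m1 : normalClosure (T : Set G) ⊴ ⊤ := NormalIn.top_iff.2 inferInstance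
  have n1 : normalClosure (U : Set G) ⊴ ⊤ := NormalIn.top_iff.2 inferInstance
  have h2 : normalClosure (T : Set G) ⊔ normalClosure (U : Set G) = ⊤ :=
    hO' _ inferInstance ((relIndex_top_right (P : Subgroup G) ▸ odd_relIndex_sylow P
      (NormalIn.refl ⊤)).of_dvd_nat (index_dvd_of_le (p3 ▸ sup_le_sup le_normalClosure
        le_normalClosure)))
  have e1 := inf_eq_of_prod P h p3 rfl le_normalClosure (comm_eq_bot_iff'.1 h1) h2
  have e2 := inf_eq_of_prod P h' (sup_comm T U ▸ p3) rfl le_normalClosure (comm_eq_bot_iff.1 h1)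
    ((sup_comm _ _).trans h2)
  refine ⟨_, _, inferInstance, inferInstance, ⟨le_top, le_top, fun a ha b hb =>
    mem_cent.1 (comm_eq_bot_iff'.1 h1 hb) a ha, ?_, h2⟩, le_normalClosure, le_normalClosure, ?_, ?_⟩
  · refine le_bot_iff.1 (hO ▸ OO_top_eq (G := G) ▸ le_core (m1.inf n1) (odd_iff_piGrp.1 ?_))
    have := odd_relIndex_sylow P (m1.inf n1)
    rwa [← inf_relIndex_right, inf_inf_distrib_left, e1, e2, p2, relIndex_bot_left] at this
  · have := odd_relIndex_sylow P m1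
    rwa [← inf_relIndex_right, e1] at this
  · have := odd_relIndex_sylow P n1
    rwa [← inf_relIndex_right, e2] at this

end Cfsg.Agent.Sg
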