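import Cfsg.Agent.Sg.SFT
import Cfsg.Agent.S1251

/-! Strongly closed sets of `2`-elements, and local lemmas modulo the core. -/

set_option autoImplicit false

namespace Cfsg.Agent.Sg

open Subgroup Cfsg.Agent.FT Cfsg.Agent.H1 Cfsg.Agent.L
open scoped Pointwise commutatorElement

variable {G G' : Type*} [Group G] [Group G']

/-- the largest normal subgroup of odd order -/
abbrev OO (H : Subgroup G) : Subgroup G := core {2}ᶜ H

/-- a normal set of `2`-elements meeting every `2`-subgroup in a subgroup -/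
structure SCS (s : Set G) : Prop where
  conj : ∀ x ∈ s, ∀ g : G, g * x * g⁻¹ ∈ s
  two : ∀ x ∈ s, IsPGroup 2 (zpowers x)
  one : 1 ∈ s
  mul : ∀ R : Subgroup G, IsPGroup 2 R → ∀ x ∈ s, ∀ y ∈ s, x ∈ R → y ∈ R → x * y⁻¹ ∈ s

structure Pair (s t : Set G) : Prop where
  l : SCS s
  r : SCS t
  comm : ∀ R : Subgroup G, IsPGroup 2 R → ∀ x ∈ s, ∀ y ∈ t, x ∈ R → y ∈ R → x * y = y * x
  disj : ∀ x ∈ s, x ∈ t → x = 1

/-- the subgroup generated by `s ∩ H` -/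
def nn (s : Set G) (H : Subgroup G) : Subgroup G := closure (s ∩ H)

variable {s t : Set G} {A B H K M N R X Y : Subgroup G}

theorem Pair.symm (h : Pair s t) : Pair t s :=
  ⟨h.r, h.l, fun R hR x hx y hy a b => (h.comm R hR y hy x hx b a).symm, fun x a b => h.disj x b a⟩

theorem SCS.inv (h : SCS s) {x : G} (hx : x ∈ s) : x⁻¹ ∈ s := by
  simpa using h.mul _ (h.two x hx) 1 h.one x hx (one_mem _) (mem_zpowers x)

/-- `s ∩ R` as a subgroup -/
def SCS.sub (h : SCS s) (hR : IsPGroup 2 R) : Subgroup G where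
  carrier := s ∩ R
  one_mem' := ⟨h.one, R.one_mem⟩
  mul_mem' {x y} hx hy := ⟨by
    simpa using h.mul R hR x hx.1 _ (h.inv hy.1) hx.2 (R.inv_mem hy.2), R.mul_mem hx.2 hy.2⟩
  inv_mem' hx := ⟨h.inv hx.1, R.inv_mem hx.2⟩

theorem SCS.sub_le (h : SCS s) (hR : IsPGroup 2 R) : h.sub hR ≤ R := fun _ hx => hx.2

theorem SCS.norm_sub (h : SCS s) (hR : IsPGroup 2 R) : 𝐍(R) ≤ 𝐍(h.sub hR) :=
  le_norm_iff.2 fun a ha x hx => ⟨h.conj x hx.1 a, conj_mem_of_mem_normalizer ha hx.2⟩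

theorem nn_le : nn s H ≤ H := (closure_le _).2 Set.inter_subset_right

theorem mem_nn {x : G} (h1 : x ∈ s) (h2 : x ∈ H) : x ∈ nn s H := subset_closure ⟨h1, h2⟩

theorem le_nn (h1 : ∀ a ∈ A, a ∈ s) (h2 : A ≤ H) : A ≤ nn s H := fun a ha => mem_nn (h1 a ha) (h2 ha)

theorem SCS.norm_nn (h : SCS s) (H : Subgroup G) : 𝐍(H) ≤ 𝐍(nn s H) :=
  le_norm_closure fun a ha x hx => mem_nn (h.conj x hx.1 a) (conj_mem_of_mem_normalizer ha hx.2)

theorem SCS.nn_normal (h : SCS s) (H : Subgroup G) : nn s H ⊴ H :=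
  ⟨nn_le, le_normalizer.trans (h.norm_nn H)⟩

theorem SCS.comap (h : SCS s) {f : G' →* G} (hf : Function.Injective f) : SCS (f ⁻¹' s) := by
  refine ⟨fun x hx g => ?_, fun x hx => ?_, by simpa using h.one, fun R hR x hx y hy a b => ?_⟩
  · simpa using h.conj _ hx (f g)
  · rw [← B1.pgroup_map_iff hf, MonoidHom.map_zpowers]; exact h.two _ hx
  · simpa using h.mul _ (hR.map f) _ hx _ hy (mem_map_of_mem f a) (mem_map_of_mem f b)

theorem Pair.comap (h : Pair s t) {f : G' →* G} (hf : Function.Injective f) :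
    Pair (f ⁻¹' s) (f ⁻¹' t) :=
  ⟨h.l.comap hf, h.r.comap hf, fun R hR x hx y hy a b => hf (by
    simpa using h.comm _ (hR.map f) _ hx _ hy (mem_map_of_mem f a) (mem_map_of_mem f b)),
    fun x a b => hf (by simpa using h.disj _ a b)⟩

theorem map_nn_top (s : Set G) (H : Subgroup G) :
    (nn (H.subtype ⁻¹' s) ⊤).map H.subtype = nn s H := by
  rw [nn, MonoidHom.map_closure, coe_top, Set.inter_univ, Set.image_preimage_eq_inter_range]
  simp [nn]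

theorem map_nn (s : Set G) (f : G →* G') : (nn s ⊤).map f = nn (f '' s) ⊤ := by
  simp [nn, MonoidHom.map_closure]

variable [Finite G]

theorem odd_OO (H : Subgroup G) : Odd #|OO H| := odd_iff_piGrp.2 (core_pi _ _)

theorem exists_two_lift (f : G →* G') {Q : Subgroup G'} (hQ : IsPGroup 2 Q) : ∃ P : Subgroup G,
    IsPGroup 2 P ∧ ∀ x, IsPGroup 2 (zpowers x) → f x ∈ Q → ∃ k ∈ f.ker, k * x * k⁻¹ ∈ P := by
  obtain ⟨P, hP⟩ := exists_isSylowIn 2 (Q.comap f)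
  refine ⟨P, hP.isPGroup, fun x h1 h2 => ?_⟩
  obtain ⟨g, g1, g2⟩ := sylow_exists_conj_le Nat.prime_two hP (zpowers_le.2 h2) h1
  haveI : Finite ((Q.comap f).map f) := Finite.of_surjective _ (f.subgroupMap_surjective _)
  have h3 : (P.map f).relIndex ((Q.comap f).map f) = 1 := by
    have h4 := ((sylow_hall Nat.prime_two hP).map f).index
    obtain ⟨n, e⟩ := (IsPGroup.iff_card (p := 2)).1 (hQ.to_le (map_comap_le f Q))
    exact IsPiNum.eq_one' (IsPiNum.of_dvd (e ▸ IsPiNum.pow (π := {2}) Nat.prime_two rfl n)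
      (relIndex_dvd_card' _ _)) h4
  obtain ⟨p, p1, p2⟩ := relIndex_eq_one.1 h3 (mem_map_of_mem f g1)
  refine ⟨p⁻¹ * g, by simp [MonoidHom.mem_ker, p2], ?_⟩
  have := P.mul_mem (P.mul_mem (P.inv_mem p1) (g2 (conj_mem_conj g (mem_zpowers x)))) p1
  convert this using 1; group

theorem SCS.lift (h : SCS s) (h' : SCS t) (f : G →* G') {Q : Subgroup G'} (hQ : IsPGroup 2 Q)
    {x y : G} (hx : x ∈ s) (hy : y ∈ t) (a : f x ∈ Q) (b : f y ∈ Q) : ∃ P : Subgroup G,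
    IsPGroup 2 P ∧ ∃ x' ∈ s, ∃ y' ∈ t, x' ∈ P ∧ y' ∈ P ∧ f x' = f x ∧ f y' = f y := by
  obtain ⟨P, p1, p2⟩ := exists_two_lift f hQ
  obtain ⟨k, k1, k2⟩ := p2 x (h.two x hx) a
  obtain ⟨l, l1, l2⟩ := p2 y (h'.two y hy) b
  rw [MonoidHom.mem_ker] at k1 l1
  exact ⟨P, p1, _, h.conj x hx k, _, h'.conj y hy l, k2, l2, by simp [k1], by simp [l1]⟩

theorem SCS.map (h : SCS s) {f : G →* G'} (hf : Function.Surjective f) : SCS (f '' s) := by
  refine ⟨?_, ?_, ⟨1, h.one, map_one f⟩, ?_⟩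
  · rintro _ ⟨x, hx, rfl⟩ g
    obtain ⟨g, rfl⟩ := hf g
    exact ⟨_, h.conj x hx g, by simp⟩
  · rintro _ ⟨x, hx, rfl⟩
    rw [← MonoidHom.map_zpowers]; exact (h.two x hx).map f
  · rintro Q hQ _ ⟨x, hx, rfl⟩ _ ⟨y, hy, rfl⟩ a b
    obtain ⟨P, p1, x', x1, y', y1, x2, y2, x3, y3⟩ := h.lift h f hQ hx hy a b
    exact ⟨_, h.mul P p1 x' x1 y' y1 x2 y2, by simp [x3, y3]⟩

theorem Pair.map (h : Pair s t) {f : G →* G'} (hf : Function.Surjective f)
    (hd : ∀ R : Subgroup G, IsPGroup 2 R → ∀ x ∈ s, ∀ y ∈ t, x ∈ R → y ∈ R → f x = f y → f x = 1) :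
    Pair (f '' s) (f '' t) := by
  refine ⟨h.l.map hf, h.r.map hf, ?_, ?_⟩
  · rintro Q hQ _ ⟨x, hx, rfl⟩ _ ⟨y, hy, rfl⟩ a b
    obtain ⟨P, p1, x', x1, y', y1, x2, y2, x3, y3⟩ := h.l.lift h.r f hQ hx hy a b
    rw [← x3, ← y3, ← map_mul, h.comm P p1 x' x1 y' y1 x2 y2, map_mul]
  · rintro _ ⟨x, hx, rfl⟩ ⟨y, hy, e⟩
    obtain ⟨P, p1, x', x1, y', y1, x2, y2, x3, y3⟩ := h.l.lift h.r f
      ((h.l.map hf).two _ ⟨x, hx, rfl⟩) hx hy (mem_zpowers _) (e ▸ mem_zpowers _)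
    rw [← x3]
    exact hd P p1 x' x1 y' y1 x2 y2 (by rw [x3, y3, e])

theorem le_OO_of_comm (hM : M ⊴ H) (h : ⁅M, M⁆ ≤ OO H) (hY : Y ≤ M) (ho : Odd #|Y|) :
    Y ≤ OO H := by
  have n := (core_normal {2}ᶜ H).norm
  rw [← quo_eq_bot_iff ((hY.trans hM.le).trans n), ← le_bot_iff, ← core_quo_core {2}ᶜ H]
  exact (nil_le_core (nil_of_comm ((comm_quo_iff (hM.le.trans n)).2 h)) (mim_mono _ hY)
    (odd_iff_piGrp.1 (odd_mim ho _))).trans ((hM.mim _).core_le _)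

theorem comm_OO_le (hN : N ⊴ H) (hB : B ≤ H) (h2 : IsPGroup 2 B) (h : ⁅N, B⁆ ≤ OO H)
    (hY : Y ≤ OO 𝐂(B)) (hYH : Y ≤ H) : ⁅Y, N⁆ ≤ OO H := by
  have n := (core_normal {2}ᶜ H).norm
  have h1 : Y /' OO H ≤ OO (H /' OO H ⊓ 𝐂(B /' OO H)) := by
    rw [← quo_inf_cent (hB.trans n) (core_le _ _) (cop_two h2 (odd_OO H))
      (Or.inr (sol_of_odd (odd_OO H)))]
    exact (mim_mono _ ((le_inf hY (le_inf hYH (hY.trans (core_le _ _)))).trans
      (core_inf_le inf_le_right))).trans (mim_core_le _ _ _)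
  have h3 : N /' OO H ⊴ H /' OO H ⊓ 𝐂(B /' OO H) := (hN.mim _).of_le (le_inf (mim_mono _ hN.le)
    ((quo_le_cent_iff (hN.le.trans n) (hB.trans n)).2 h)) inf_le_left
  rw [← quo_le_cent_iff (hYH.trans n) (hN.le.trans n)]
  refine h1.trans (comm_eq_bot_iff.1 (le_bot_iff.1 ?_))
  rw [← core_quo_core {2}ᶜ H]
  exact ((comm_le_inf (h3.le.trans (core_normal _ _).norm) ((core_le _ _).trans h3.norm)).trans
    (core_inf_le h3.le)).trans ((hN.mim _).core_le _)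

theorem le_OO_of_cent (hN : N ⊴ H) {a : G} (ha : a ∈ N) (h2 : IsPGroup 2 (zpowers a))
    (hX : X ≤ OO 𝐂[a]) (hXH : X ≤ H) (h : ⁅N, X⁆ ≤ OO H) : X ≤ OO H := by
  have n := (core_normal {2}ᶜ H).norm
  have h1 : H ⊓ centMod N (OO H) ⊴ H := NormalIn.inf_of_norm (le_norm_centMod hN.norm n)
  have h3 : H ⊓ centMod N (OO H) ⊓ centMod (H ⊓ centMod N (OO H)) (OO H) ⊴ H :=
    ⟨inf_le_left.trans inf_le_left, le_normalizer_inf h1.norm (le_norm_centMod h1.norm n)⟩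
  refine le_OO_of_comm h3 ((commutator_mono inf_le_left inf_le_right).trans (comm_centMod_le _ _))
    (le_inf (le_inf hXH (le_centMod_iff.2 ⟨hXH.trans hN.norm, hXH.trans n, h⟩))
      (le_centMod_iff.2 ⟨hXH.trans h1.norm, hXH.trans n, ?_⟩)) (odd_of_le (odd_OO _) hX)
  rw [commutator_comm]
  refine comm_OO_le h1 (zpowers_le.2 (hN.le ha)) h2 ?_ (by rwa [cent_zpowers]) hXH
  rw [commutator_comm]
  exact (commutator_mono (zpowers_le.2 ha) inf_le_right).trans (comm_centMod_le _ _)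

theorem exists_conj_two {O : Subgroup G} (hO : O ⊴ H) (ho : Odd #|O|) (hA : A ≤ H) (hB : B ≤ H)
    (a2 : IsPGroup 2 A) (b2 : IsPGroup 2 B) (h : ⁅A, B⁆ ≤ O) :
    ∃ k ∈ O, IsPGroup 2 (A ⊔ k ⋆ B : Subgroup G) := by
  have h1 : O ⊴ O ⊔ (A ⊔ B) := hO.of_le le_sup_left (sup_le hO.le (sup_le hA hB))
  obtain ⟨P, p1, p2⟩ := exists_isSylowIn_ge a2 (le_sup_of_le_right le_sup_left : A ≤ O ⊔ (A ⊔ B))
  have h2 : HallIn {2}ᶜ O (O ⊔ (A ⊔ B)) := by
    refine ⟨le_sup_left, odd_iff_piGrp.1 ho, ?_⟩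
    rw [compl_compl, ← piGrp_quo_iff h1.norm, quo_sup_left ((sup_le hA hB).trans hO.norm),
      mim_sup _ (hA.trans hO.norm) (hB.trans hO.norm), piGrp_iff_isPGroup Nat.prime_two]
    exact pgroup_sup (pgroup_mim a2 _) (pgroup_mim b2 _) (Or.inl (le_norm_of_le_cent
      ((quo_le_cent_iff (hA.trans hO.norm) (hB.trans hO.norm)).2 h)))
  obtain ⟨k, k1, k2⟩ := (h2.sdprod h1.norm (by
    rw [compl_compl]; exact sylow_hall Nat.prime_two p1)).exists_conj_le (cop_two p1.isPGroup ho).symm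
    (le_sup_of_le_right le_sup_right) (cop_two b2 ho) (Or.inl (sol_of_odd ho))
  exact ⟨k, k1, p1.isPGroup.to_le (sup_le p2 k2)⟩

theorem two_zpowers {x : G} (h : x * x = 1) : IsPGroup 2 (zpowers x) :=
  (pgroup_zpowers Nat.prime_two).2 (IsPiNum.of_dvd ((isPiNum_prime Nat.prime_two).2 rfl)
    (orderOf_dvd_of_pow_eq_one (x := x) (by rwa [sq])))

theorem card_zpowers_eq_two {x : G} (h : x * x = 1) (h1 : x ≠ 1) : #|zpowers x| = 2 := by
  rw [Nat.card_zpowers]; exact orderOf_eq_prime (by rwa [sq]) h1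

theorem le_sup_zpowers (hA : Sq A) (h4 : #|A| = 4) {c d : G} (hc : c ∈ A) (hd : d ∈ A) (c1 : c ≠ 1)
    (h : d ∉ zpowers c) : A ≤ zpowers c ⊔ zpowers d := by
  have h1 : zpowers c ⊔ zpowers d ≤ A := sup_le (zpowers_le.2 hc) (zpowers_le.2 hd)
  have h2 := card_lt_of_lt (left_lt_sup.2 (mt zpowers_le.1 h))
  have h3 := card_dvd_of_le' h1
  rw [card_zpowers_eq_two (hA c hc) c1] at h2
  rw [h4] at h3
  have h5 := Nat.le_of_dvd (by norm_num) h3
  refine (eq_of_le_of_card_le h1 ?_).ge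
  rw [h4]
  interval_cases #|zpowers c ⊔ zpowers d| <;> simp_all

/-- two involutions -/
theorem exists_dihedral {x y : G} (hx : x * x = 1) (hy : y * y = 1) : ∃ y' r : G,
    y' = r * y * r⁻¹ ∧ y = y' * ⁅y', r⁻¹⁆ ∧ ⁅y', r⁻¹⁆ = ⁅x, r⁻¹⁆ ∧ Odd (orderOf r) ∧
      r ∈ zpowers ⁅y', r⁻¹⁆ ∧ r ∈ 𝐂[x * y'] ∧ IsPGroup 2 (zpowers x ⊔ zpowers y' : Subgroup G) := by
  have hi : ∀ v ∈ zpowers (x * y), x * v * x⁻¹ = v⁻¹ := by
    rintro _ ⟨n, rfl⟩
    have : x * (x * y) * x⁻¹ = (x * y)⁻¹ := by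
      rw [← mul_assoc, hx, one_mul, mul_inv_rev, inv_eq_of_mul_eq_one_right hy]
    simp only [← conj_zpow, this, inv_zpow']
    simp
  have hu := piPart_mem_zpowers {2} (x * y)
  have hk := piPart_mem_zpowers {2}ᶜ (x * y)
  have e := piPart_mul_compl {2} (x * y)
  have u2 := piPart_piElt {2} (x * y)
  have k2 : Odd (orderOf (piPart {2}ᶜ (x * y))) := by
    rw [← Nat.card_zpowers, odd_iff_piGrp, piGrp_zpowers]; exact piPart_piElt _ _
  generalize piPart {2} (x * y) = u at *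
  generalize piPart {2}ᶜ (x * y) = k at *
  obtain ⟨r, r1, rfl⟩ : ∃ r ∈ zpowers k, r * r = k := by
    obtain ⟨m, hm⟩ := k2
    exact ⟨k ^ (m + 1), npow_mem_zpowers _ _, by
      rw [← pow_add, show m + 1 + (m + 1) = 2 * m + 1 + 1 by ring, ← hm, pow_succ,
        pow_orderOf_eq_one, one_mul]⟩
  have r2 := zpowers_le.2 hk r1
  have c : u * r = r * u := commute_of_mem_zpowers hu r2
  have c' : u * r⁻¹ = r⁻¹ * u := (commute_of_mem_zpowers hu (inv_mem r2))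
  have i1 := hi _ (inv_mem r2)
  have e1 : ⁅x, r⁻¹⁆ = r * r := by rw [commutatorElement_def, i1, inv_inv]
  have e2 : ⁅x * u, r⁻¹⁆ = r * r := by
    rw [← e1, commutatorElement_def, commutatorElement_def, mul_assoc x u, c']; group
  have e3 : y = x * u * (r * r) := by rw [mul_assoc, e, ← mul_assoc, hx, one_mul]
  refine ⟨x * u, r, ?_, e2 ▸ e3, e2.trans e1.symm, k2.of_dvd_nat (orderOf_dvd_of_mem_zpowers r1),
    e2 ▸ r1, ?_, ?_⟩
  · have : r * x = x * r⁻¹ := by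
      have := hi _ r2
      rw [mul_inv_eq_iff_eq_mul] at i1; rw [i1, inv_inv]
    rw [e3]
    calc x * u = x * (r⁻¹ * u) * r := by rw [← c']; group
      _ = _ := by rw [← mul_assoc x, ← this]; group
  · rw [← mul_assoc, hx, one_mul]; exact mem_cent1.2 c.symm
  · refine (pgroup_sup (two_zpowers hx) ((pgroup_zpowers Nat.prime_two).2 u2) (Or.inl
      (zpowers_le.2 (mem_norm_of_conj_le ?_)))).to_le (sup_le le_sup_left
        (zpowers_le.2 (mul_mem_sup (mem_zpowers x) (mem_zpowers u))))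
    rw [conj_zpowers, hi u hu, zpowers_inv]

end Cfsg.Agent.Sg
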