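import Cfsg.Agent.Sg.DP1

/-! Two commuting strongly closed subgroups: the simple case. -/

set_option autoImplicit false

namespace Cfsg.Agent.Sg

open Subgroup Cfsg.Agent.FT Cfsg.Agent.H1 Cfsg.Agent.L
open scoped Pointwise commutatorElement

variable {G : Type*} [Group G]

structure Cx (s t : Set G) (A B : Subgroup G) : Prop where
  pair : Pair s t
  loc : ∀ H : Subgroup G, H ≠ ⊤ → ⁅nn s H, nn t H⁆ ≤ OO H
  cne : ∀ a : G, a ≠ 1 → 𝐂[a] ≠ ⊤
  As : ∀ a ∈ A, a ∈ s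
  Bt : ∀ b ∈ B, b ∈ t
  sqA : Sq A
  sqB : Sq B
  cA : #|A| = 4
  cB : #|B| = 4
  comm : B ≤ 𝐂(A)

def th (A : Subgroup G) (b : G) : Subgroup G := ⁅OO 𝐂[b], A⁆ ⊔ OO 𝐂[b] ⊓ OO 𝐂(A)

variable {s t : Set G} {A B H X Y : Subgroup G} {a b c : G}

theorem Cx.symm (h : Cx s t A B) : Cx t s B A :=
  ⟨h.pair.symm, fun H hH => by rw [commutator_comm]; exact h.loc H hH, h.cne, h.Bt, h.As, h.sqB,
    h.sqA, h.cB, h.cA, le_cent_symm h.comm⟩

theorem Cx.cent (h : Cx s t A B) : A ⊔ B ≤ 𝐂(A ⊔ B) := by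
  rw [cent_sup]
  exact le_inf (sup_le h.sqA.cent h.comm) (sup_le (le_cent_symm h.comm) h.sqB.cent)

theorem Cx.mem_sup (h : Cx s t A B) (ha : a ∈ A ⊔ B) : ∃ x ∈ A, ∃ y ∈ B, x * y = a :=
  ((NormalIn.sup_left (le_norm_of_le_cent h.comm)).mem_sup le_sup_right).1 ha

theorem Cx.sq (h : Cx s t A B) : Sq (A ⊔ B) := fun a ha => by
  obtain ⟨x, hx, y, hy, rfl⟩ := h.mem_sup ha
  rw [mul_assoc, ← mul_assoc y, ← mem_cent.1 (h.comm hy) x hx, mul_assoc, h.sqB y hy, mul_one,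
    h.sqA x hx]

theorem th_le (h : A ≤ 𝐂[b]) : th A b ≤ OO 𝐂[b] :=
  sup_le ((core_normal _ _).comm_le_left h) inf_le_left

theorem norm_th (h1 : X ≤ 𝐂[b]) (h2 : X ≤ 𝐂(A)) : X ≤ 𝐍(th A b) :=
  le_normalizer_sup (le_normalizer_commutator (h1.trans (core_normal _ _).norm)
    (le_norm_of_le_cent h2)) (le_normalizer_inf (h1.trans (core_normal _ _).norm)
      (h2.trans (core_normal _ _).norm))

theorem zp_cent (h : Y ≤ 𝐂[c]) : ⁅Y, zpowers c⁆ = ⊥ := comm_eq_bot_iff.2 (by rwa [cent_zpowers])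

variable [Finite G]

theorem OO_inf_cent_le (hc : c ∈ A) : OO 𝐂[c] ⊓ 𝐂(A) ≤ OO 𝐂(A) := core_inf_le (cent_le_cent1 hc)

theorem split_two (h2 : IsPGroup 2 A) (hX : Odd #|X|) (hn : A ≤ 𝐍(X)) : X ≤ ⁅X, A⁆ ⊔ X ⊓ 𝐂(A) :=
  (commutator_sup_centralizer hn (cop_two h2 hX) (Or.inr (sol_of_odd hX))).ge

theorem Cx.le_OO (h : Cx s t A B) (hH : H ≠ ⊤) (hY : Odd #|Y|) (h1 : Y ≤ nn s H) (h2 : Y ≤ nn t H) :
    Y ≤ OO H :=
  le_OO_of_comm ((h.pair.l.nn_normal H).inf (h.pair.r.nn_normal H))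
    ((commutator_mono inf_le_left inf_le_right).trans (h.loc H hH)) (le_inf h1 h2) hY

theorem Cx.two_side (h : Cx s t A B) (hH : H ≠ ⊤) {x y : G} (hx : x ∈ s) (hy : y ∈ t) (xH : x ∈ H)
    (yH : y ∈ H) (hY : Odd #|Y|) (h1 : Y ≤ H) (h2 : Y ≤ 𝐂[x * y]) (hn : x ∈ 𝐍(Y)) :
    ⁅Y, zpowers x⁆ ≤ OO H := by
  have n := h.pair.r.nn_normal H
  refine h.le_OO hH (odd_of_le hY (comm_le_left (zpowers_le.2 hn))) ((commutator_mono le_rfl
    (zpowers_le.2 (mem_nn hx xH))).trans ((h.pair.l.nn_normal H).comm_le_right h1))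
    (le_trans (commutator_mono le_rfl (zpowers_le.2 ?_)) (comm_sup_right_le (X := zpowers (x * y))
      (Y := zpowers y) ((zp_cent h2).le.trans bot_le) ((commutator_mono le_rfl
        (zpowers_le.2 (mem_nn hy yH))).trans (n.comm_le_right h1))
      (zpowers_le.2 (n.norm (H.mul_mem xH yH))) (zpowers_le.2 (n.norm yH))))
  simpa using mul_mem_sup (mem_zpowers (x * y)) (inv_mem (mem_zpowers y))

theorem Cx.k1 (h : Cx s t A B) (ha : a ∈ A ⊔ B) (hc : c ∈ A) (c1 : c ≠ 1) :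
    ⁅OO 𝐂[a] ⊓ 𝐂[c], A⁆ ≤ OO 𝐂[c] := by
  have hH := h.cne c c1
  have h1 := h.sq.cent1 (mem_sup_left hc)
  have n := (core_normal {2}ᶜ 𝐂[c]).norm
  obtain ⟨x, hx, y, hy, rfl⟩ := h.mem_sup ha
  by_cases e : x ∈ zpowers c
  · refine (commutator_mono le_rfl (le_nn h.As (le_sup_left.trans h1))).trans
      (comm_OO_le (h.pair.l.nn_normal _) (zpowers_le.2 (h1 ha)) (two_zpowers (h.sq _ ha))
        ((commutator_mono le_rfl (zpowers_le.2 (mul_mem_sup e hy))).trans (comm_sup_right_le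
          ((zp_cent nn_le).le.trans bot_le) ((commutator_mono le_rfl (le_nn h.Bt
            (le_sup_right.trans h1))).trans (h.loc _ hH)) ((zpowers_le_cent1 c).trans n)
              ((le_sup_right.trans h1).trans n))) ?_ inf_le_right)
    rw [cent_zpowers]; exact inf_le_left
  · refine (commutator_mono le_rfl (le_sup_zpowers h.sqA h.cA hc hx c1 e)).trans (comm_sup_right_le
      ((zp_cent inf_le_right).le.trans bot_le) (h.two_side hH (h.As x hx) (h.Bt y hy)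
        (h1 (mem_sup_left hx)) (h1 (mem_sup_right hy)) (odd_of_le (odd_OO _) inf_le_left)
        inf_le_right (inf_le_left.trans (core_le _ _)) ?_) ((zpowers_le_cent1 c).trans n)
          (zpowers_le.2 (n (h1 (mem_sup_left hx)))))
    exact le_normalizer_inf ((h.sq.cent1 ha).trans (core_normal _ _).norm) (h1.trans le_normalizer)
      (mem_sup_left hx)

theorem Cx.k2 (h : Cx s t A B) (ha : a ∈ A ⊔ B) : th A a ⊓ 𝐂(A) ≤ OO 𝐂(A) := by
  have h1 : A ≤ 𝐍(OO 𝐂[a]) := (le_sup_left.trans (h.sq.cent1 ha)).trans (core_normal _ _).norm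
  rw [th, sup_inf_modular' (inf_le_right.trans (core_le _ _))
    (Or.inl (inf_le_left.trans (left_le_norm_comm _ _)))]
  refine sup_le ((cent_comm_le (N := OO 𝐂[a] ⊓ OO 𝐂(A)) h.sqA h.cA.ge (odd_OO _) h1
    (inf_le_inf_left _ (core_le _ _)) (le_normalizer_inf (inf_le_left.trans le_normalizer)
      (inf_le_right.trans (core_normal _ _).norm)) fun c hc c1 => le_inf (inf_le_left.trans
        ((commutator_mono inf_le_left le_rfl).trans (comm_le_left h1)))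
        ((inf_le_inf_right _ (h.k1 ha hc c1)).trans (OO_inf_cent_le hc))).trans inf_le_right)
    inf_le_right

theorem Cx.side (h : Cx s t A B) (ha : a ∈ A ⊔ B) (hH : H ≠ ⊤) (hA : A ≤ H) (hX : Odd #|X|)
    (hn : A ≤ 𝐍(X)) (h1 : X ≤ th A a) (h2 : X ≤ H) : ⁅X, nn t H⁆ ≤ OO H := by
  have n := (core_normal {2}ᶜ H).norm
  have h3 := le_nn h.As hA
  refine (commutator_mono (split_two h.sqA.two hX hn) le_rfl).trans (comm_sup_left_le
    ((commutator_mono ((commutator_mono le_rfl h3).trans ((h.pair.l.nn_normal H).comm_le_right h2))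
      le_rfl).trans (h.loc H hH)) (comm_OO_le (h.pair.r.nn_normal H) hA h.sqA.two ?_
        ((inf_le_inf_right _ h1).trans (h.k2 ha)) (inf_le_left.trans h2))
    (((comm_le_left hn).trans h2).trans n) ((inf_le_left.trans h2).trans n))
  rw [commutator_comm]
  exact (commutator_mono h3 le_rfl).trans (h.loc H hH)

theorem Cx.le_th (h : Cx s t A B) (ha : a ∈ A ⊔ B) (hn : A ≤ 𝐍(X)) (h1 : X ≤ th A a)
    (h2 : X ≤ OO 𝐂[b]) : X ≤ th A b :=
  (split_two h.sqA.two (odd_of_le (odd_OO _) h2) hn).trans (sup_le_sup (commutator_mono h2 le_rfl)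
    (le_inf (inf_le_left.trans h2) ((inf_le_inf_right _ h1).trans (h.k2 ha))))

theorem Cx.sf (h : Cx s t A B) : SF (A ⊔ B) fun b => th A b ⊓ th B b := by
  have l : ∀ a ∈ A ⊔ B, th A a ⊓ th B a ≤ OO 𝐂[a] := fun a ha =>
    inf_le_left.trans (th_le (le_sup_left.trans (h.sq.cent1 ha)))
  have n : ∀ a ∈ A ⊔ B, A ⊔ B ≤ 𝐍(th A a ⊓ th B a) := fun a ha => le_normalizer_inf
    (norm_th (h.sq.cent1 ha) (le_cent_of_le h.cent le_sup_left))
    (norm_th (h.sq.cent1 ha) (le_cent_of_le h.cent le_sup_right))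
  refine ⟨h.sq, ?_, fun a ha _ => odd_of_le (odd_OO _) (l a ha),
    fun a ha _ => (l a ha).trans (core_le _ _), fun a ha _ => n a ha, fun a ha _ b hb b1 => ?_⟩
  · rw [(DProd.mk h.comm (le_bot_iff.1 fun x hx => h.pair.disj x (h.As x hx.1) (h.Bt x hx.2))
      rfl).card, h.cA, h.cB]
  have hH := h.cne b b1
  have h1 := h.sq.cent1 hb
  have h2 := le_normalizer_inf (n a ha) (h1.trans le_normalizer)
  have h3 : th A a ⊓ th B a ⊓ 𝐂[b] ≤ OO 𝐂[a] := inf_le_left.trans (l a ha)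
  have ho := odd_of_le (odd_OO _) h3
  have ha' : a ∈ B ⊔ A := sup_comm A B ▸ ha
  have m := (core_normal {2}ᶜ 𝐂[b]).norm
  have h4 : th A a ⊓ th B a ⊓ 𝐂[b] ≤ OO 𝐂[b] := by
    refine le_OO_of_cent ((h.pair.l.nn_normal _).sup (h.pair.r.nn_normal _))
      (sup_le_sup (le_nn h.As (le_sup_left.trans h1)) (le_nn h.Bt (le_sup_right.trans h1)) ha)
      (two_zpowers (h.sq a ha)) h3 inf_le_right ?_
    rw [commutator_comm]
    exact comm_sup_right_le (h.symm.side ha' hH (le_sup_right.trans h1) ho (le_sup_right.trans h2)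
      (inf_le_left.trans inf_le_right) inf_le_right) (h.side ha hH (le_sup_left.trans h1) ho
        (le_sup_left.trans h2) (inf_le_left.trans inf_le_left) inf_le_right)
      (nn_le.trans m) (nn_le.trans m)
  exact le_inf (h.le_th ha (le_sup_left.trans h2) (inf_le_left.trans inf_le_left) h4)
    (h.symm.le_th ha' (le_sup_right.trans h2) (inf_le_left.trans inf_le_right) h4)

theorem th_self (hA : Sq A) (ha : a ∈ A) : th A a = OO 𝐂[a] :=
  le_antisymm (th_le (hA.cent1 ha)) ((split_two hA.two (odd_OO _) ((hA.cent1 ha).trans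
    (core_normal _ _).norm)).trans (sup_le_sup_left (le_inf inf_le_left (OO_inf_cent_le ha)) _))

/-- the join of the cores of the centralisers -/
def Xi (A : Subgroup G) : Subgroup G := ⨆ a ∈ A, ⨆ _ : a ≠ 1, OO 𝐂[a]

omit [Finite G] in
theorem le_Xi (ha : a ∈ A) (a1 : a ≠ 1) : OO 𝐂[a] ≤ Xi A :=
  le_iSup₂_of_le a ha (le_iSup_of_le a1 le_rfl)

theorem Cx.Xi_ne (h : Cx s t A B) (h0 : OO (⊤ : Subgroup G) = ⊥) : Xi A ≠ ⊤ := by
  obtain ⟨W, hW, hW'⟩ := h.sf.complete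
  have key : ∀ a ∈ A, a ≠ 1 → ⁅OO 𝐂[a], B⁆ ≤ W ∧ 𝐂[a] ⊓ 𝐂(B) ≤ 𝐍(W) := by
    intro a ha a1
    have ha' : a ∈ A ⊔ B := mem_sup_left ha
    have hz := zpowers_le.2 ha
    have e1 : th A a ⊓ th B a = th B a := by
      rw [th_self h.sqA ha]; exact inf_eq_right.2 (th_le (le_sup_right.trans (h.sq.cent1 ha')))
    have l1 : th B a ≤ W := e1 ▸ hW' _ (h.sf.mem ha' a1)
    have e2 : W ⊓ 𝐂[a] = th B a := le_antisymm (e1 ▸ hW.le a ha' a1) (le_inf l1
      ((th_le (le_sup_right.trans (h.sq.cent1 ha'))).trans (core_le _ _)))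
    have nW := (zpowers_le.2 ha').trans hW.norm
    have e3 : ⁅W, zpowers a⁆ = ⨆ b ∈ B, ⨆ _ : b ≠ 1, ⁅OO 𝐂[b], zpowers a⁆ := by
      refine le_antisymm (comm_gen h.sqB h.cB.ge (le_cent_of_le h.comm hz) hW.odd
        (le_sup_right.trans hW.norm) nW ((h.sqA.of_le hz).cop hW.odd) fun b hb b1 =>
          le_iSup₂_of_le b hb (le_iSup_of_le b1 (commutator_mono ((hW.le b (mem_sup_right hb)
            b1).trans (inf_le_right.trans (th_self h.sqB hb).le)) le_rfl)))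
        (iSup₂_le fun b hb => iSup_le fun b1 => ?_)
      have h1 := le_sup_left.trans (h.sq.cent1 (mem_sup_right hb))
      rw [← commutator_commutator_eq (hz.trans (h1.trans (core_normal _ _).norm))
        ((h.sqA.of_le hz).cop (odd_OO _)) (Or.inr (sol_of_odd (odd_OO _)))]
      refine commutator_mono (le_trans ?_ (hW' _ (h.sf.mem (mem_sup_right hb) b1))) le_rfl
      refine le_inf (le_sup_of_le_left (commutator_mono le_rfl hz)) ?_
      rw [th_self h.sqB hb]; exact (core_normal _ _).comm_le_left (hz.trans h1)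
    refine ⟨le_sup_left.trans l1, ?_⟩
    rw [← commutator_sup_centralizer nW ((h.sqA.of_le hz).cop hW.odd) (Or.inr hW.sol), e3,
      cent_zpowers, e2]
    exact le_normalizer_sup (iSup_norm fun b => iSup_norm fun hb => iSup_norm fun _ =>
      le_normalizer_commutator ((inf_le_right.trans (cent_le_cent1 hb)).trans (core_normal _ _).norm)
        (le_norm_zpowers_of_cent inf_le_left)) (norm_th inf_le_left inf_le_right)
  intro e
  by_cases h1 : W = ⊥
  · obtain ⟨b, hb, b1⟩ := exists_mem_ne_one (H := B) fun e => by simpa [e] using h.cB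
    refine h.cne b b1 (top_le_iff.1 (e ▸ iSup₂_le fun a ha => iSup_le fun a1 => ?_))
    exact (comm_eq_bot_iff.1 (le_bot_iff.1 (h1 ▸ (key a ha a1).1))).trans (cent_le_cent1 hb)
  · refine h1 (le_bot_iff.1 (h0 ▸ le_core ⟨le_top, e ▸ iSup₂_le fun a ha => iSup_le fun a1 => ?_⟩
      (odd_iff_piGrp.1 hW.odd)))
    refine (split_two h.sqB.two (odd_OO _) ((le_sup_right.trans (h.sq.cent1 (mem_sup_left ha))).trans
      (core_normal _ _).norm)).trans (sup_le ((key a ha a1).1.trans le_normalizer)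
        ((inf_le_inf_right _ (core_le _ _)).trans (key a ha a1).2))

theorem Cx.mem_Xi (h : Cx s t A B) {y : G} (hy : y ∈ t) (y2 : y * y = 1) : y ∈ 𝐂(A) ⊔ Xi A := by
  obtain ⟨x, hx, x1⟩ := exists_mem_ne_one (H := A) fun e => by simpa [e] using h.cA
  have xs := h.As x hx
  obtain ⟨y', r, e1, e2, e3, r1, r2, r3, r4⟩ := exists_dihedral (h.sqA x hx) y2
  have y1 : y' ∈ t := e1 ▸ h.pair.r.conj y hy r
  have y3 : y' * y' = 1 := by rw [e1]; simp [mul_assoc, ← mul_assoc y y, y2]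
  have y4 := h.pair.comm _ r4 x xs y' y1 (mem_sup_left (mem_zpowers x)) (mem_sup_right (mem_zpowers _))
  have ne : ∀ {v : G}, v ∈ t → x * v ≠ 1 := fun {v} hv e => x1 (h.pair.disj x xs
    (by rw [eq_inv_of_mul_eq_one_left e]; exact h.pair.r.inv hv))
  have c1 : x ∈ 𝐂[x * y'] := mem_cent1.2 (by rw [mul_assoc, ← y4])
  have c2 : y' ∈ 𝐂[x * y'] := mem_cent1.2 (by rw [← mul_assoc, ← y4])
  have k1 : ⁅y', r⁻¹⁆ ∈ ⁅zpowers y', OO 𝐂[x * y']⁆ := by
    refine commutator_mem_commutator (mem_zpowers _) (inv_mem (zpowers_le.1 (h.le_OO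
      (h.cne _ (ne y1)) (by rwa [Nat.card_zpowers]) (zpowers_le.2 (zpowers_le.2 ?_ r2))
        (zpowers_le.2 (zpowers_le.2 ?_ r2)))))
    · exact e3 ▸ (h.pair.l.nn_normal _).comm_le_left le_rfl
        (commutator_mem_commutator (mem_nn xs c1) (inv_mem r3))
    · exact (h.pair.r.nn_normal _).comm_le_left le_rfl
        (commutator_mem_commutator (mem_nn y1 c2) (inv_mem r3))
  have c3 : y' ∈ 𝐂[x] := mem_cent1.2 y4.symm
  obtain ⟨k, k2, k3⟩ := exists_conj_two (core_normal {2}ᶜ 𝐂[x]) (odd_OO _) (h.sqA.cent1 hx)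
    (zpowers_le.2 c3) h.sqA.two (two_zpowers y3) ((commutator_mono (le_nn h.As (h.sqA.cent1 hx))
      (zpowers_le.2 (mem_nn y1 c3))).trans (h.loc _ (h.cne x x1)))
  have k4 : k * x * k⁻¹ = x := mul_inv_eq_iff_eq_mul.2 (mem_cent1.1 (core_le _ _ k2))
  have k5 := conj_mem_conj k k1
  have k7 : k * (x * y') * k⁻¹ = k * x * k⁻¹ * (k * y' * k⁻¹) := by group
  rw [conj_comm, conj_core, conj_cent1, conj_zpowers, k7, k4] at k5
  rw [conj_zpowers] at k3
  have v1 := h.pair.r.conj y' y1 k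
  have v2 : k * y' * k⁻¹ * (k * y' * k⁻¹) = 1 := by simp [mul_assoc, ← mul_assoc y' y', y3]
  have e4 : y = k⁻¹ * (k * y' * k⁻¹ * (k * ⁅y', r⁻¹⁆ * k⁻¹)) * k := by
    conv_lhs => rw [e2]
    group
  generalize k * y' * k⁻¹ = v at *
  have v3 : v ∈ 𝐂(A) := mem_cent.2 fun a ha => h.pair.comm _ k3 a (h.As a ha) v v1
    (mem_sup_left ha) (mem_sup_right (mem_zpowers v))
  have v4 : A ≤ 𝐂[x * v] := le_cent1_iff.2 (mul_mem (h.sqA.cent hx) v3)
  have v5 : v ∈ 𝐂[x * v] := mem_cent1.2 (by rw [← mul_assoc, ← mem_cent.1 v3 x hx])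
  have v6 : ⁅zpowers v, OO 𝐂[x * v]⁆ ≤ Xi A := by
    rw [commutator_comm]
    refine comm_gen h.sqA h.cA.ge (le_cent_symm (zpowers_le.2 v3)) (odd_OO _)
      (v4.trans (core_normal _ _).norm) (zpowers_le.2 ((core_normal _ _).norm v5))
      (cop_two (two_zpowers v2) (odd_OO _)) fun c hc c1 => le_trans ?_ (le_Xi hc c1)
    have v7 := cent_le_cent1 hc v3
    refine h.symm.two_side (h.cne c c1) v1 xs v7 (h.sqA.cent1 hc hx) (odd_of_le (odd_OO _)
      inf_le_left) inf_le_right ?_ (zpowers_le.1 (le_normalizer_inf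
        (zpowers_le.2 ((core_normal _ _).norm v5)) (zpowers_le.2 (le_normalizer v7))))
    rw [← mem_cent.1 v3 x hx]; exact inf_le_left.trans (core_le _ _)
  have k6 : k ∈ 𝐂(A) ⊔ Xi A := mem_sup_right (le_Xi hx x1 k2)
  rw [e4]
  exact mul_mem (mul_mem (inv_mem k6) (mul_mem_sup v3 (v6 k5))) k6

theorem Cx.false (h : Cx s t A B) (h0 : OO (⊤ : Subgroup G) = ⊥)
    (hs : ∀ N : Subgroup G, N ⊴ ⊤ → N = ⊥ ∨ N = ⊤) : False := by
  obtain ⟨b, hb, b1⟩ := exists_mem_ne_one (H := B) fun e => by simpa [e] using h.cB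
  obtain ⟨a, ha, a1⟩ := exists_mem_ne_one (H := A) fun e => by simpa [e] using h.cA
  have h1 : 𝐂(A) ⊔ Xi A = ⊤ := top_le_iff.1 (((hs (closure {y | y ∈ t ∧ y * y = 1})
    ⟨le_top, le_norm_closure fun g _ y hy => subset_closure ⟨h.pair.r.conj y hy.1 g, by
      simp [mul_assoc, ← mul_assoc y y, hy.2]⟩⟩).resolve_left (ne_bot_of_mem (subset_closure
        ⟨h.Bt b hb, h.sqB b hb⟩) b1)).ge.trans ((closure_le _).2 fun y hy => h.mem_Xi hy.1 hy.2))
  have h2 := (hs (Xi A) ⟨le_top, h1 ▸ sup_le (iSup_norm fun c => iSup_norm fun hc => iSup_norm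
    fun _ => (cent_le_cent1 hc).trans (core_normal _ _).norm) le_normalizer⟩).resolve_right
      (h.Xi_ne h0)
  rw [h2, sup_bot_eq] at h1
  exact h.cne a a1 (top_le_iff.1 (h1 ▸ cent_le_cent1 ha))

end Cfsg.Agent.Sg
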